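import Cfsg.Agent.H33.U6E.Plane

/-!
No outer element over the involution of a pair is conjugate to the central involution.
-/

set_option autoImplicit false

namespace H33.U6E

open H38.U6C H50.U6C H2.U6E Subgroup

universe u

variable {G : Type u} [Group G] {z : G} {J H₀ : Subgroup G} {φ : G → V}
  {ρ : ↥(Subgroup.centralizer ({z} : Set G)) →* Equiv.Perm V} (C : Ctx z J H₀ φ ρ)

theorem comm_z {g : G} (hg : g ∈ (centralizer ({z} : Set G))) : Commute g z :=
  Subgroup.mem_centralizer_singleton_iff.1 hg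

include C

theorem J_cent {j : G} (hj : j ∈ J) : j ∈ (centralizer ({z} : Set G)) := C.le_cent (C.J_le hj)

theorem phi_one : φ 1 = 0 := (C.φ_ker 1 J.one_mem).2 (Or.inl rfl)

theorem phi_z : φ z = 0 := (C.φ_ker z C.z_mem).2 (Or.inr rfl)

theorem phi_mul_z {a : G} (ha : a ∈ J) : φ (a * z) = φ a := by
  rw [C.φ_mul a ha z C.z_mem, phi_z C, vadd_zero']

theorem phi_inv {a : G} (ha : a ∈ J) : φ a⁻¹ = φ a := by
  refine (vadd_eq_zero ?_).symm
  rw [← C.φ_mul a ha _ (J.inv_mem ha), mul_inv_cancel, phi_one C]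

/-- Two members of `J` with the same image differ by at most `z`. -/
theorem eq_of_phi {a b : G} (ha : a ∈ J) (hb : b ∈ J) (h : φ a = φ b) : b = a ∨ b = a * z := by
  have h1 : φ (a⁻¹ * b) = 0 := by
    rw [C.φ_mul _ (J.inv_mem ha) b hb, phi_inv C ha, h, vadd_self]
  rcases (C.φ_ker _ (J.mul_mem (J.inv_mem ha) hb)).1 h1 with h2 | h2
  · exact Or.inl (inv_mul_eq_one.1 h2).symm
  · exact Or.inr (by rw [← h2, mul_inv_cancel_left])

theorem z_sq_inv : z⁻¹ = z := inv_eq_of_mul_eq_one_right C.sq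

/-- Conjugation on `J` modulo `⟨z⟩`. -/
theorem phi_conj (g : (centralizer ({z} : Set G))) {j : G} (hj : j ∈ J) : φ ((g : G) * j * (g : G)⁻¹) = ρ g (φ j) :=
  C.ρ_φ g j hj

theorem H0_index : (H₀.subgroupOf (centralizer ({z} : Set G))).index = 2 := by
  have h := (H₀.subgroupOf (centralizer ({z} : Set G))).card_mul_index
  rw [Nat.card_congr (Subgroup.subgroupOfEquivOfLe C.le_cent).toEquiv, C.card_H₀, C.card_cent] at h
  exact Nat.eq_of_mul_eq_mul_left (show 0 < 2 ^ 9 * 25920 by norm_num) (by linarith)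

/-- An involution over `z` centralises at least sixteen members of the core. -/
theorem cent_bound [Finite G] (y : (centralizer ({z} : Set G))) (hy : (y : G) * y = 1) :
    16 ≤ Nat.card ↥(J ⊓ Subgroup.centralizer ({(y : G)} : Set G)) := by
  classical
  have hadd : ∀ a b, ρ y (vadd a b) = vadd (ρ y a) (ρ y b) := by
    by_cases h : (y : G) ∈ H₀
    · exact (C.lin_of_mem y h).add
    · exact (C.anti_of_not_mem y h).add
  have hinv : ∀ v, ρ y (ρ y v) = v := fun v => by
    rw [← Equiv.Perm.mul_apply, ← map_mul, show y * y = 1 from Subtype.ext hy, map_one]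
    rfl
  let ψ : J →* VX := MonoidHom.mk' (fun j => φ (j : G)) fun a b => C.φ_mul a a.2 b b.2
  have hψ : Function.Surjective ψ := fun v => by
    obtain ⟨a, ha, h⟩ := C.φ_surj v
    exact ⟨⟨a, ha⟩, h⟩
  have hδ : ∀ a b : V, vadd (vadd a b) (ρ y (vadd a b)) =
      vadd (vadd a (ρ y a)) (vadd b (ρ y b)) := fun a b => by rw [hadd, vadd_vadd_vadd]
  let δf : VX → VX := fun v => vadd v (ρ y v)
  let δ : VX →* VX := MonoidHom.mk' δf fun a b => hδ a b
  have hker : ∀ v : V, (v : VX) ∈ δ.ker ↔ ρ y v = v := fun v => by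
    exact ⟨fun h => (vadd_eq_zero (show vadd v (ρ y v) = 0 from h)).symm,
      fun h => (show vadd v (ρ y v) = (0 : V) by rw [h, vadd_self])⟩
  have hrange : δ.range ≤ δ.ker := by
    rintro _ ⟨v, rfl⟩
    refine (hker _).2 ?_
    exact (hadd v _).trans ((congrArg (vadd _) (hinv v)).trans (vadd_comm _ _))
  have : Finite VX := Finite.of_fintype VX
  have hprod : Nat.card δ.ker * Nat.card δ.range = 256 := by
    rw [← Subgroup.index_ker, Subgroup.card_mul_index, card_VX]
  have h16 : 16 ≤ Nat.card δ.ker := by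
    have h2 := Subgroup.card_le_of_le hrange
    by_contra hlt
    rw [Nat.not_le] at hlt
    nlinarith
  -- the preimage in the core
  let P : Subgroup J := δ.ker.comap ψ
  have hP : Nat.card P = 2 * Nat.card δ.ker := by
    have h1 := P.card_mul_index
    rw [Subgroup.index_comap_of_surjective _ hψ, C.card_J] at h1
    have h2 := δ.ker.card_mul_index
    rw [card_VX] at h2
    have h3 : 0 < δ.ker.index := Nat.pos_of_ne_zero Subgroup.index_ne_zero_of_finite
    exact Nat.eq_of_mul_eq_mul_right h3 (by rw [h1, mul_assoc, h2]; norm_num)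
  have hP2 : ∀ p : P, (y : G) * ((p : J) : G) * (y : G)⁻¹ = ((p : J) : G) ∨
      (y : G) * ((p : J) : G) * (y : G)⁻¹ = ((p : J) : G) * z := fun p =>
    eq_of_phi C (p : J).2 (C.conj_mem _ y.2 _ (p : J).2) (by
      rw [phi_conj C y (p : J).2]
      exact ((hker _).1 p.2).symm)
  have hzp : ∀ p : P, Commute z ((p : J) : G) := fun p => (comm_z (J_cent C (p : J).2)).symm
  let e : P →* G := MonoidHom.mk'
    (fun p => (y : G) * ((p : J) : G) * (y : G)⁻¹ * ((p : J) : G)⁻¹) fun a b => by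
      show (y : G) * (((a : J) : G) * ((b : J) : G)) * (y : G)⁻¹ * (((a : J) : G) * ((b : J) : G))⁻¹
        = _
      rw [show (y : G) * (((a : J) : G) * ((b : J) : G)) * (y : G)⁻¹ =
        ((y : G) * ((a : J) : G) * (y : G)⁻¹) * ((y : G) * ((b : J) : G) * (y : G)⁻¹) by group]
      rcases hP2 b with hb | hb
      · simp only [hb]; group
      · rcases hP2 a with ha | ha
        · simp only [ha, hb]
          rw [show ((a : J) : G) * (((b : J) : G) * z) * (((a : J) : G) * ((b : J) : G))⁻¹ =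
            ((a : J) : G) * (((b : J) : G) * z * ((b : J) : G)⁻¹) * ((a : J) : G)⁻¹ by group,
            (hzp b).symm.eq, mul_inv_cancel_right, (hzp a).symm.eq, mul_inv_cancel_right,
            mul_inv_cancel, one_mul]
        · simp only [ha, hb]
          rw [show ((a : J) : G) * z * (((b : J) : G) * z) * (((a : J) : G) * ((b : J) : G))⁻¹ =
            ((a : J) : G) * z * (((b : J) : G) * z * ((b : J) : G)⁻¹) * ((a : J) : G)⁻¹ by group,
            (hzp b).symm.eq, mul_inv_cancel_right, mul_assoc ((a : J) : G), C.sq, mul_one,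
            (hzp a).symm.eq, mul_inv_cancel_right, C.sq, mul_inv_cancel]
  have hrz : e.range ≤ Subgroup.zpowers z := by
    rintro _ ⟨p, rfl⟩
    show (y : G) * ((p : J) : G) * (y : G)⁻¹ * ((p : J) : G)⁻¹ ∈ _
    rcases hP2 p with hp | hp <;> rw [hp]
    · rw [mul_inv_cancel]; exact one_mem _
    · rw [(hzp p).symm.eq, mul_inv_cancel_right]; exact Subgroup.mem_zpowers z
  have hr2 : Nat.card e.range ≤ 2 := by
    have h := Subgroup.card_le_of_le hrz
    rwa [Nat.card_zpowers, orderOf_eq_prime (p := 2) (by rw [pow_two]; exact C.sq) C.ne_one] at h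
  have hprod' : Nat.card e.ker * Nat.card e.range = Nat.card P := by
    rw [← Subgroup.index_ker, Subgroup.card_mul_index]
  have h16' : 16 ≤ Nat.card e.ker := by
    have := Nat.mul_le_mul_left (Nat.card e.ker) hr2
    omega
  refine h16'.trans (Nat.card_le_card_of_injective (fun p => ⟨((p.1 : J) : G), (p.1 : J).2,
    Subgroup.mem_centralizer_singleton_iff.2 ?_⟩) fun p q h => ?_)
  · have h1 : (y : G) * ((p.1 : J) : G) * (y : G)⁻¹ * ((p.1 : J) : G)⁻¹ = 1 := MonoidHom.mem_ker.1 p.2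
    exact (mul_inv_eq_iff_eq_mul.1 (mul_inv_eq_one.1 h1)).symm
  · have h1 : ((p.1 : J) : G) = ((q.1 : J) : G) :=
      congrArg (fun w : ↥(J ⊓ Subgroup.centralizer ({(y : G)} : Set G)) => (w : G)) h
    exact Subtype.ext (Subtype.ext (Subtype.ext h1))

omit C in
/-- The kill. -/
theorem ckill : CKillStmt.{u} := by
  intro G _ _ z J H₀ φ ρ C hW σ γ P t c x _ hc hx hconj
  classical
  obtain ⟨g, hg⟩ := isConj_iff.1 hconj
  set X : G := (x : G) with hXdef
  have hXz : Commute X z := comm_z x.2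
  have hzX : X * z = z * X := hXz.eq
  have hXX : X * X = 1 := by
    rw [← hg, show g * z * g⁻¹ * (g * z * g⁻¹) = g * (z * z) * g⁻¹ by group, C.sq]; group
  have hXi : X⁻¹ = X := inv_eq_of_mul_eq_one_right hXX
  have hnl : ∀ h : (centralizer ({z} : Set G)), (h : G) ∈ H₀ → ρ h ≠ σ := fun h hh e =>
    lin_not_anti (C.lin_of_mem h hh) (by rw [e]; exact P.anti)
  have hX0 : X ∉ H₀ := fun h => hnl x h hx
  have hXne : X ≠ z := fun e => hX0 (e ▸ C.J_le C.z_mem)
  have hphix : ∀ j ∈ J, φ (X * j * X) = σ (φ j) := fun j hj => by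
    have := phi_conj C x hj
    rwa [hx, ← hXdef, hXi] at this
  have hjz : ∀ j ∈ J, Commute j z := fun j hj => comm_z (J_cent C hj)
  -- the orbit of `X` under `J` contains something over each fixed vector
  have hcover : ∀ m ∈ J, σ (φ m) = φ m → ∃ j ∈ J, X * m = j * X * j⁻¹ ∨ X * m = j * X * j⁻¹ * z := by
    intro m hm hfix
    obtain ⟨j, hj, hjφ⟩ := C.φ_surj (smul4 2 (φ m))
    have hXjX : X * j * X ∈ J := by
      have := C.conj_mem X x.2 j hj
      rwa [hXi] at this
    refine ⟨j, hj, ?_⟩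
    have h1 : φ (X * j * X * j⁻¹) = φ m := by
      rw [C.φ_mul _ hXjX _ (J.inv_mem hj), phi_inv C hj, hphix j hj, hjφ, shift_onto P hfix]
    have h2 : X * (X * j * X * j⁻¹) = j * X * j⁻¹ := by
      rw [← mul_assoc, ← mul_assoc, ← mul_assoc, hXX, one_mul]
    rcases eq_of_phi C (J.mul_mem hXjX (J.inv_mem hj)) hm h1 with h | h
    · exact Or.inl (by rw [h, h2])
    · exact Or.inr (by rw [h, ← mul_assoc, h2])
  -- an element over `γ` fixing `X`
  obtain ⟨c', hc', hcX⟩ : ∃ c' : (centralizer ({z} : Set G)), ρ c' = γ ∧ Commute (c' : G) X := by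
    set m := X * ((c : G) * X * (c : G)⁻¹) with hmdef
    have hm : m ∈ J := by
      have h1 : ρ (x * (c * x * c⁻¹)) = 1 := by
        rw [map_mul, map_mul, map_mul, map_inv, hx, hc, ← P.comm, mul_inv_cancel_right, P.invol]
      exact (C.ρ_ker _).1 h1
    have hXm : X * m = (c : G) * X * (c : G)⁻¹ := by rw [hmdef, ← mul_assoc, hXX, one_mul]
    have hmi : X * m * X = m⁻¹ := by
      have h1 : X * m * (X * m) = 1 := by
        rw [hXm, show (c : G) * X * (c : G)⁻¹ * ((c : G) * X * (c : G)⁻¹) =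
          (c : G) * (X * X) * (c : G)⁻¹ by group, hXX, mul_one, mul_inv_cancel]
      exact eq_inv_of_mul_eq_one_left (by rw [← h1]; group)
    have hfix : σ (φ m) = φ m := by rw [← hphix m hm, hmi, phi_inv C hm]
    obtain ⟨j, hj, h⟩ := hcover m hm hfix
    rw [hXm] at h
    let jH : (centralizer ({z} : Set G)) := ⟨j, J_cent C hj⟩
    have hρj : ρ jH = 1 := (C.ρ_ker jH).2 hj
    set c₁ : (centralizer ({z} : Set G)) := jH⁻¹ * c with hc1
    have hρ1 : ρ c₁ = γ := by rw [hc1, map_mul, map_inv, hρj, hc, inv_one, one_mul]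
    have hval : (c₁ : G) = j⁻¹ * (c : G) := rfl
    have hcon : (c₁ : G) * X * (c₁ : G)⁻¹ = j⁻¹ * ((c : G) * X * (c : G)⁻¹) * j := by
      rw [hval]; group
    rcases h with h | h
    · exact ⟨c₁, hρ1, mul_inv_eq_iff_eq_mul.1 (by rw [hcon, h]; group)⟩
    · have hsw : (c₁ : G) * X * (c₁ : G)⁻¹ = X * z := by
        rw [hcon, h, show j⁻¹ * (j * X * j⁻¹ * z) * j = X * (j⁻¹ * (z * j)) by group,
          ← (hjz j hj).eq, inv_mul_cancel_left]
      have hcz : Commute (c₁ : G) z := comm_z c₁.2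
      refine ⟨c₁ ^ 6, by rw [map_pow, hρ1, pow_succ, P.pow_five, one_mul], ?_⟩
      have h2 : Commute ((c₁ : G) * c₁) X := mul_inv_eq_iff_eq_mul.1 (by
        rw [show (c₁ : G) * c₁ * X * ((c₁ : G) * c₁)⁻¹ =
          (c₁ : G) * ((c₁ : G) * X * (c₁ : G)⁻¹) * (c₁ : G)⁻¹ by group, hsw,
          show (c₁ : G) * (X * z) * (c₁ : G)⁻¹ =
            ((c₁ : G) * X * (c₁ : G)⁻¹) * ((c₁ : G) * z * (c₁ : G)⁻¹) by group, hsw, hcz.eq,
          mul_inv_cancel_right, mul_assoc, C.sq, mul_one])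
      have h6 : ((c₁ ^ 6 : (centralizer ({z} : Set G))) : G) = ((c₁ : G) * c₁) ^ 3 := by
        rw [Subgroup.coe_pow, ← pow_two, ← pow_mul]
      rw [h6]; exact h2.pow_left 3
  have hρc : ∀ j ∈ J, φ ((c' : G) * j * (c' : G)⁻¹) = γ (φ j) := fun j hj => by
    rw [phi_conj C c' hj, hc']
  -- the preimage of the fixed space centralises `X`
  have hWcomm : ∀ j ∈ J, σ (φ j) = φ j → Commute X j := by
    intro j hj hfix
    obtain ⟨v, hv, hvu⟩ := gamma_onto P hfix
    obtain ⟨w, hw, hwφ⟩ := C.φ_surj v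
    set e := X * w * X * w⁻¹ with he
    have hXwX : X * w * X ∈ J := by
      have := C.conj_mem X x.2 w hw
      rwa [hXi] at this
    have he01 : e = 1 ∨ e = z := (C.φ_ker e (J.mul_mem hXwX (J.inv_mem hw))).1 (by
      rw [he, C.φ_mul _ hXwX _ (J.inv_mem hw), phi_inv C hw, hphix w hw, hwφ, hv, vadd_self])
    have hecomm : ∀ a : G, Commute a z → Commute a e := fun a ha => by
      rcases he01 with h | h <;> rw [h]
      exacts [Commute.one_right a, ha]
    set w' := (c' : G) * w * (c' : G)⁻¹ with hw'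
    have hw'J : w' ∈ J := C.conj_mem _ c'.2 w hw
    have hXw : X * w * X = e * w := by rw [he]; group
    have hXw' : X * w' * X = e * w' := by
      have hc'i : (c' : G) * X = X * (c' : G) := hcX.eq
      have h1 : X * w' * X = (c' : G) * (X * w * X) * (c' : G)⁻¹ := by
        rw [hw']
        calc X * ((c' : G) * w * (c' : G)⁻¹) * X
            = (X * (c' : G)) * w * ((c' : G)⁻¹ * X) := by group
          _ = ((c' : G) * X) * w * (X * (c' : G)⁻¹) := by rw [hc'i, hcX.inv_left.eq]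
          _ = (c' : G) * (X * w * X) * (c' : G)⁻¹ := by group
      rw [h1, hXw, hw', show (c' : G) * (e * w) * (c' : G)⁻¹ =
        ((c' : G) * e * (c' : G)⁻¹) * ((c' : G) * w * (c' : G)⁻¹) by group,
        (hecomm _ (comm_z c'.2)).eq, mul_inv_cancel_right]
    have hcm : Commute X (w' * w⁻¹) := by
      have : X * (w' * w⁻¹) * X = w' * w⁻¹ := by
        rw [show X * (w' * w⁻¹) * X = (X * w' * X) * (X⁻¹ * w⁻¹ * X) by group, hXw',
          show X⁻¹ * w⁻¹ * X = (X * w * X)⁻¹ by rw [mul_inv_rev, mul_inv_rev, hXi, mul_assoc],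
          hXw, mul_inv_rev, mul_assoc, ← mul_assoc w', ← mul_assoc,
          ((hecomm _ (hjz w' hw'J)).symm.mul_right ((hecomm _ (hjz w hw)).symm.inv_right)).eq,
          mul_inv_cancel_right]
      exact (mul_inv_eq_iff_eq_mul.1 (by rw [hXi]; exact this))
    rcases eq_of_phi C (J.mul_mem hw'J (J.inv_mem hw)) hj
      (by rw [C.φ_mul _ hw'J _ (J.inv_mem hw), phi_inv C hw, hw', hρc w hw, hwφ, hvu]) with h | h
    · rw [h]; exact hcm
    · rw [h]; exact hcm.mul_right hXz
  -- the core at `X`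
  set Jx := J.map (MulAut.conj g).toMonoidHom with hJx
  have hmemJx : ∀ a, a ∈ Jx ↔ g⁻¹ * a * g ∈ J := fun a => by
    rw [hJx, Subgroup.mem_map]
    constructor
    · rintro ⟨b, hb, rfl⟩; simpa [mul_assoc] using hb
    · intro h; exact ⟨_, h, by simp [mul_assoc]⟩
  have hXmem : X ∈ Jx := (hmemJx X).2 (by rw [← hg]; simpa [mul_assoc] using C.z_mem)
  have hcentX : ∀ a ∈ Jx, Commute a X := fun a ha => by
    have h := ((hjz _ ((hmemJx a).1 ha)).conj g)
    rwa [show g * (g⁻¹ * a * g) * g⁻¹ = a by group, hg] at h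
  have hWx : ∀ a ∈ Jx, IsConj z a → a = X := fun a ha hza => by
    have h := hW _ ((hmemJx a).1 ha) (hza.trans (isConj_iff.2 ⟨g⁻¹, by group⟩))
    rw [← hg, ← h]; group
  have hsqx : ∀ a ∈ Jx, a * a = 1 ∨ a * a = X := fun a ha => by
    have h := C.φ_sq _ ((hmemJx a).1 ha)
    have e : a * a = g * (g⁻¹ * a * g * (g⁻¹ * a * g)) * g⁻¹ := by group
    split_ifs at h
    · exact Or.inr (by rw [e, h, hg])
    · exact Or.inl (by rw [e, h]; group)
  have hzJx : z ∉ Jx := fun h => hXne (hWx z h (IsConj.refl z)).symm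
  have hc'Jx : ∀ a ∈ Jx, (c' : G) * a * (c' : G)⁻¹ ∈ Jx := fun a ha => by
    refine (hmemJx _).2 ?_
    have hmem : g⁻¹ * (c' : G) * g ∈ (centralizer ({z} : Set G)) := Subgroup.mem_centralizer_singleton_iff.2 (by
      have h := hcX.conj g⁻¹
      rw [← hg, show g⁻¹ * (g * z * g⁻¹) * g⁻¹⁻¹ = z by group, inv_inv] at h
      exact h.eq)
    have h := C.conj_mem _ hmem _ ((hmemJx a).1 ha)
    rwa [show g⁻¹ * (c' : G) * g * (g⁻¹ * a * g) * (g⁻¹ * (c' : G) * g)⁻¹ =
      g⁻¹ * ((c' : G) * a * (c' : G)⁻¹) * g by group] at h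
  -- the intersection of the two cores
  let D := J ⊓ Jx
  have hDfix : ∀ d ∈ D, σ (φ d) = φ d := fun d hd => by
    have h := hphix d hd.1
    rw [← (hcentX d hd.2).eq, mul_assoc, hXX, mul_one] at h
    exact h.symm
  let Q : Subgroup VX :=
    { carrier := {v | ∃ d ∈ D, φ d = (v : V)}
      one_mem' := ⟨1, D.one_mem, phi_one C⟩
      mul_mem' := fun {a b} ⟨d, hd, hda⟩ ⟨d', hd', hdb⟩ =>
        ⟨d * d', D.mul_mem hd hd', (C.φ_mul d hd.1 d' hd'.1).trans (congrArg₂ vadd hda hdb)⟩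
      inv_mem' := fun {a} ha => ha }
  have hd0 : ∀ d ∈ D, φ d = 0 → d = 1 := fun d hd h =>
    ((C.φ_ker d hd.1).1 h).resolve_right fun e => hzJx (e ▸ hd.2)
  have hD1 : ∀ d ∈ D, d = 1 := by
    rcases invariant P Q (fun v ⟨d, hd, h⟩ => h ▸ hDfix d hd)
      (fun v ⟨d, hd, h⟩ => ⟨(c' : G) * d * (c' : G)⁻¹, ⟨C.conj_mem _ c'.2 d hd.1, hc'Jx d hd.2⟩,
        by rw [hρc d hd.1, h]⟩) with h | h
    · exact fun d hd => hd0 d hd (h _ ⟨d, hd, rfl⟩)
    exfalso
    have hd2 : ∀ d ∈ D, d * d = 1 := fun d hd => hd0 _ (D.mul_mem hd hd) (by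
      rw [C.φ_mul d hd.1 d hd.1, vadd_self])
    have hnot : ∀ d ∈ D, d ≠ 1 → ¬ IsConj z (X * d) := fun d hd hne hcj =>
      hne (mul_eq_left.1 (hWx _ (Jx.mul_mem hXmem hd.2) hcj))
    have horb : ∀ d ∈ D, d ≠ 1 → ∃ j ∈ J, j * X * j⁻¹ = X * d * z := by
      intro d hd hne
      obtain ⟨j, hj, h' | h'⟩ := hcover d hd.1 (hDfix d hd)
      · exact absurd (isConj_iff.2 ⟨j * g, by rw [h', ← hg]; group⟩) (hnot d hd hne)
      · exact ⟨j, hj, by rw [h']; simp [mul_assoc, C.sq]⟩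
    have hQcard : 16 ≤ Nat.card D := by
      choose d hd hdv using fun u : Fx σ => h u.1 u.2
      rw [← card_fix P]
      exact Nat.card_le_card_of_injective (fun u => (⟨d u, hd u⟩ : D)) fun u v e =>
        Subtype.ext ((hdv u).symm.trans ((congrArg (fun q : D => φ (q : G)) e).trans (hdv v)))
    have hpick : ∀ s : Finset G, s.card < 16 → ∃ d ∈ D, d ∉ s := fun s hs => by
      by_contra hno
      push Not at hno
      have h1 : Nat.card D ≤ Nat.card (s : Set G) :=
        Nat.card_le_card_of_injective (fun d : D => (⟨(d : G), hno d d.2⟩ : (s : Set G)))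
          fun a b e => Subtype.ext (congrArg Subtype.val e :)
      rw [Nat.card_coe_set_eq (s : Set G), Set.ncard_coe_finset] at h1
      omega
    obtain ⟨d₁, hd₁, hd₁'⟩ := hpick {1} (by simp)
    have hd₁ne : d₁ ≠ 1 := by simpa using hd₁'
    obtain ⟨j₁, hj₁, hor₁⟩ := horb d₁ hd₁ hd₁ne
    have hflip : ∀ d ∈ D, d ≠ 1 → d ≠ d₁ → j₁ * d * j₁⁻¹ = d * z := by
      intro d hd hne hne'
      obtain ⟨j, hj, hor⟩ := horb d hd hne
      have hcomm : j₁ * d * j₁⁻¹ = d ∨ j₁ * d * j₁⁻¹ = d * z := by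
        have h1 := C.φ_comm j₁ hj₁ d hd.1
        split_ifs at h1
        · exact Or.inr (by rw [h1, mul_assoc d, (hjz j₁ hj₁).eq, ← mul_assoc, mul_inv_cancel_right])
        · exact Or.inl (by rw [h1, mul_one, mul_inv_cancel_right])
      refine hcomm.resolve_left fun hfixd => ?_
      have hne2 : d₁ * d ≠ 1 := fun e => hne' (mul_left_cancel (e.trans (hd2 d₁ hd₁).symm))
      refine hnot _ (D.mul_mem hd₁ hd) hne2 (isConj_iff.2 ⟨j₁ * j * g, ?_⟩)
      calc j₁ * j * g * z * (j₁ * j * g)⁻¹ = j₁ * (j * X * j⁻¹) * j₁⁻¹ := by rw [← hg]; group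
        _ = (j₁ * X * j₁⁻¹) * (j₁ * d * j₁⁻¹) * (j₁ * z * j₁⁻¹) := by rw [hor]; group
        _ = X * d₁ * (z * d) * z := by
          rw [hor₁, hfixd, (hjz j₁ hj₁).eq, mul_inv_cancel_right, mul_assoc (X * d₁)]
        _ = X * (d₁ * d) := by
          rw [← (hjz d hd.1).eq, mul_assoc (X * d₁), mul_assoc d, C.sq, mul_one, mul_assoc]
    obtain ⟨a, ha, ha'⟩ := hpick {1, d₁} ((Finset.card_le_two).trans_lt (by norm_num))
    simp only [Finset.mem_insert, Finset.mem_singleton, not_or] at ha'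
    obtain ⟨b, hb, hb'⟩ := hpick {1, d₁, a, a * d₁} (Finset.card_le_four.trans_lt (by norm_num))
    simp only [Finset.mem_insert, Finset.mem_singleton, not_or] at hb'
    have hab1 : a * b ≠ 1 := fun e => hb'.2.2.1 (mul_left_cancel (e.trans (hd2 a ha).symm))
    have hab2 : a * b ≠ d₁ := fun e => hb'.2.2.2 (by
      rw [← e, ← mul_assoc, hd2 a ha, one_mul])
    have h3 := hflip _ (D.mul_mem ha hb) hab1 hab2
    rw [show j₁ * (a * b) * j₁⁻¹ = (j₁ * a * j₁⁻¹) * (j₁ * b * j₁⁻¹) by group,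
      hflip a ha ha'.1 ha'.2, hflip b hb hb'.1 hb'.2.1, mul_assoc a z, ← mul_assoc z b,
      ← (hjz b hb.1).eq, mul_assoc b z, C.sq, mul_one] at h3
    exact C.ne_one (mul_eq_left.1 h3.symm)
  -- the centraliser of `z` in the core at `X`
  have hy : g⁻¹ * z * g ∈ (centralizer ({z} : Set G)) := Subgroup.mem_centralizer_singleton_iff.2 (by
    have h := hXz.symm.conj g⁻¹
    rw [← hg, show g⁻¹ * (g * z * g⁻¹) * g⁻¹⁻¹ = z by group, inv_inv] at h
    exact h.eq)
  have h16 := cent_bound C ⟨_, hy⟩ (by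
    show g⁻¹ * z * g * (g⁻¹ * z * g) = 1
    rw [show g⁻¹ * z * g * (g⁻¹ * z * g) = g⁻¹ * (z * z) * g by group, C.sq]; group)
  set A := Jx ⊓ (centralizer ({z} : Set G)) with hA
  have hA16 : 16 ≤ Nat.card A := by
    refine h16.trans (Nat.card_le_card_of_injective
      (fun a => ⟨g * (a : G) * g⁻¹, (hmemJx _).2 (by simpa [mul_assoc] using a.2.1),
        Subgroup.mem_centralizer_singleton_iff.2 ?_⟩) fun a b e => ?_)
    · have h := Commute.conj (Subgroup.mem_centralizer_singleton_iff.1 a.2.2 : Commute _ _) g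
      rw [show g * (g⁻¹ * z * g) * g⁻¹ = z by group] at h
      exact h.eq
    · have h : g * (a : G) * g⁻¹ = g * (b : G) * g⁻¹ := congrArg Subtype.val e
      exact Subtype.ext (mul_left_cancel (mul_right_cancel h))
  set A₀ : Subgroup (centralizer ({z} : Set G)) := (A ⊓ H₀).subgroupOf (centralizer ({z} : Set G)) with hA0
  have hA0mem : ∀ a : (centralizer ({z} : Set G)), a ∈ A₀ ↔ (a : G) ∈ Jx ∧ (a : G) ∈ H₀ := fun a =>
    ⟨fun h => ⟨h.1.1, h.2⟩, fun h => ⟨⟨h.1, a.2⟩, h.2⟩⟩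
  have hsqA : ∀ a : (centralizer ({z} : Set G)), a ∈ A₀ → a * a = 1 := fun a ha => by
    rcases hsqx _ ((hA0mem a).1 ha).1 with h | h
    · exact Subtype.ext h
    · exact absurd (h ▸ H₀.mul_mem ((hA0mem a).1 ha).2 ((hA0mem a).1 ha).2) hX0
  have hnormA : ∀ a : (centralizer ({z} : Set G)), a ∈ A₀ → c'⁻¹ * a * c' ∈ A₀ := by
    have hidx := H0_index C
    have hnorm : (H₀.subgroupOf (centralizer ({z} : Set G))).Normal := Subgroup.normal_of_index_eq_two hidx
    intro a ha
    obtain ⟨ha1, ha2⟩ := (hA0mem a).1 ha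
    have h6 : ∀ n : ℕ, (((c' ^ n * a * (c' ^ n)⁻¹ : (centralizer ({z} : Set G)))) : G) ∈ Jx := by
      intro n
      induction n with
      | zero => simpa using ha1
      | succ n ih =>
        have h := hc'Jx _ ih
        rw [show (((c' ^ (n + 1) * a * (c' ^ (n + 1))⁻¹ : (centralizer ({z} : Set G)))) : G) =
          (c' : G) * ((c' ^ n * a * (c' ^ n)⁻¹ : (centralizer ({z} : Set G))) : G) * (c' : G)⁻¹ by
            simp only [pow_succ', Subgroup.coe_mul, Subgroup.coe_inv]; group]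
        exact h
    refine (hA0mem _).2 ⟨?_, ?_⟩
    · have hpow : c' ^ (orderOf c' - 1) = c'⁻¹ := eq_inv_of_mul_eq_one_left (by
        rw [← pow_succ, Nat.sub_add_cancel (orderOf_pos c'), pow_orderOf_eq_one])
      have h := h6 (orderOf c' - 1)
      rw [hpow, inv_inv] at h
      exact h
    · have h := hnorm.conj_mem a ha2 c'⁻¹
      rwa [inv_inv] at h
  have hK := normalised_trivial P (A₀.map ρ)
    (by rintro _ ⟨a, ha, rfl⟩; exact C.lin_of_mem a ((hA0mem a).1 ha).2)
    (by rintro _ ⟨a, ha, rfl⟩; rw [← map_mul, hsqA a ha, map_one])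
    (by
      rintro _ ⟨a, ha, rfl⟩
      rw [← hx, ← map_mul, ← map_mul]
      exact congrArg ρ (Subtype.ext (hcentX _ ((hA0mem a).1 ha).1).eq.symm))
    (by
      rintro _ ⟨a, ha, rfl⟩
      exact ⟨_, hnormA a ha, by rw [map_mul, map_mul, map_inv, hc']⟩)
  have hA0triv : ∀ a : (centralizer ({z} : Set G)), a ∈ A₀ → a = 1 := fun a ha =>
    Subtype.ext (hD1 _ ⟨(C.ρ_ker a).1 (hK _ ⟨a, ha, rfl⟩), ((hA0mem a).1 ha).1⟩)
  have hA2 : Nat.card A ≤ 2 := by
    let f : A → Prop := fun a => (a : G) ∈ H₀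
    have hf : Function.Injective f := fun a b h => by
      have hab : ((⟨(a : G), a.2.2⟩ : (centralizer ({z} : Set G)))⁻¹ * ⟨(b : G), b.2.2⟩) ∈ H₀.subgroupOf (centralizer ({z} : Set G)) :=
        (Subgroup.mul_mem_iff_of_index_two (H0_index C)).2 ⟨fun h' => by
          rw [Subgroup.mem_subgroupOf]
          exact (iff_of_eq h).1 (by simpa [Subgroup.mem_subgroupOf] using h'),
          fun h' => by
          rw [Subgroup.inv_mem_iff, Subgroup.mem_subgroupOf]
          exact (iff_of_eq h).2 h'⟩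
      have h1 := hA0triv _ ((hA0mem ((⟨(a : G), a.2.2⟩ : (centralizer ({z} : Set G)))⁻¹ * ⟨(b : G), b.2.2⟩)).2 ⟨Jx.mul_mem (Jx.inv_mem a.2.1) b.2.1, Subgroup.mem_subgroupOf.1 hab⟩)
      exact Subtype.ext (inv_mul_eq_one.1 (congrArg Subtype.val h1 :))
    have h := Nat.card_le_card_of_injective f hf
    rwa [Nat.card_eq_fintype_card (α := Prop), Fintype.card_prop] at h
  omega

end H33.U6E
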