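import Cfsg.Agent.H33.U6E.Stab
import Cfsg.Agent.H33.U6E.CKill
import Cfsg.Agent.H33.FiLocal.Count

/-!
In the natural case with the outer part the central involution has no other conjugate in its core.
-/

set_option autoImplicit false

namespace H33.U6E

open H38.U6C H50.U6C H2.U6E H33.U6E.Cert Subgroup

universe u

variable {G : Type u} [Group G] {z : G} {J H₀ : Subgroup G} {φ : G → V}
  {ρ : ↥(Subgroup.centralizer ({z} : Set G)) →* Equiv.Perm V} (C : Ctx z J H₀ φ ρ)

theorem singular_count : (Finset.univ.filter fun v : V => v ≠ 0 ∧ qv v = false).card = 135 := by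
  decide +kernel

theorem uGroup_card_bound :
    ∀ n ≤ 51840, n ∣ 32768 → n ∣ 51840 → n ≤ 128 := by
  intro n _ h1 h2
  have h := Nat.dvd_gcd h1 h2
  rw [show Nat.gcd 32768 51840 = 128 by decide +kernel] at h
  exact Nat.le_of_dvd (by norm_num) h

theorem pol_radical : ∀ w : V,
    (∀ x ∈ ([1, 2, 4, 8, 16, 64, 160] : List V), pol w x = false) → w = 0 ∨ w = v0 := by
  decide +kernel

theorem pol_basis : ∀ x ∈ ([1, 2, 4, 8, 16, 64, 160] : List V), pol v0 x = false := by
  decide +kernel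

theorem pol_flip : pol (smul4 2 u0) v0 = true ∧ pol v0 u0 = false := by decide +kernel

theorem pol_comm (a b : V) : pol a b = pol b a := by
  simp only [pol, herm_conj a b]
  exact (show ∀ h < 4, decide (2 ≤ h) = decide (2 ≤ fconj h) by decide) _ (herm_lt a b)

theorem pol_of_herm_zero {a : V} (h : herm v0 a = 0) : pol v0 a = false := by
  simp [pol, h]

theorem isLin_tv (i : Fin 45) : IsLin (tv i) := isLin_of_isom (tv_mem_isom i)

include C

/-- Lifts of the unitary group lie in the index-two subgroup. -/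
theorem lift_uGroup {σ : Equiv.Perm V} (hσ : σ ∈ uGroup) :
    ∃ h : centralizer ({z} : Set G), (h : G) ∈ H₀ ∧ ρ h = σ := by
  rw [← C.range₀] at hσ
  obtain ⟨h, hh, rfl⟩ := hσ
  exact ⟨h, hh, rfl⟩

theorem lift_tv (i : Fin 45) : ∃ h : centralizer ({z} : Set G), ρ h = tv i := by
  obtain ⟨h, -, hh⟩ := lift_uGroup C (Subgroup.subset_closure ⟨i, rfl⟩)
  exact ⟨h, hh⟩

theorem lift_run : ∀ (l : List (Fin 45)) (v : V),
    ∃ h : centralizer ({z} : Set G), ρ h v = run l v
  | [], v => ⟨1, by rw [map_one]; rfl⟩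
  | i :: l, v => by
    obtain ⟨h, hh⟩ := lift_run l (tvFun i v)
    obtain ⟨t, ht⟩ := lift_tv C i
    exact ⟨h * t, by rw [map_mul, Equiv.Perm.mul_apply, ht]; exact hh⟩

/-- Singular vectors are conjugate. -/
theorem to_base {a : G} (ha : a ∈ J) (h0 : φ a ≠ 0) (hq : qv (φ a) = false) :
    ∃ h : centralizer ({z} : Set G), φ ((h : G) * a * (h : G)⁻¹) = v0 := by
  obtain ⟨h, hh⟩ := lift_run C (words.getD (φ a).val []) (φ a)
  exact ⟨h, by rw [phi_conj C h ha, hh, words_ok _ hq h0]⟩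

/-- An involution of the core other than `z` is singular. -/
theorem sing_of_invol {a : G} (ha : a ∈ J) (h2 : a * a = 1) (h1 : a ≠ 1) (hz : a ≠ z) :
    φ a ≠ 0 ∧ qv (φ a) = false := by
  refine ⟨fun h => ((C.φ_ker a ha).1 h).elim h1 hz, ?_⟩
  by_contra hne
  have h := C.φ_sq a ha
  rw [h2, if_pos (Bool.eq_true_of_not_eq_false hne)] at h
  exact C.ne_one h.symm

theorem comm_iff {a b : G} (ha : a ∈ J) (hb : b ∈ J) :
    Commute a b ↔ pol (φ a) (φ b) = false := by
  have h := C.φ_comm a ha b hb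
  cases hp : pol (φ a) (φ b)
  · simp only [hp, Bool.false_eq_true, if_false, mul_one] at h
    exact ⟨fun _ => rfl, fun _ => h⟩
  · simp only [hp, if_true] at h
    refine ⟨fun hc => absurd ?_ C.ne_one, fun hf => by simp at hf⟩
    rw [hc.eq] at h
    exact mul_eq_left.1 h.symm

/-- The preimage of a set of vectors has twice its size. -/
theorem card_pre (p : V → Prop) :
    Nat.card {a : G // a ∈ J ∧ p (φ a)} = 2 * Nat.card {v : V // p v} := by
  classical
  choose sec hsec hsecφ using C.φ_surj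
  let F : {v : V // p v} × Bool → {a : G // a ∈ J ∧ p (φ a)} := fun q =>
    ⟨if q.2 then sec q.1.1 * z else sec q.1.1, by
      split_ifs
      · exact ⟨J.mul_mem (hsec _) C.z_mem, by rw [phi_mul_z C (hsec _), hsecφ]; exact q.1.2⟩
      · exact ⟨hsec _, by rw [hsecφ]; exact q.1.2⟩⟩
  have hF : Function.Bijective F := by
    refine ⟨fun q q' h => ?_, fun a => ?_⟩
    · have h' : (if q.2 then sec q.1.1 * z else sec q.1.1) =
          if q'.2 then sec q'.1.1 * z else sec q'.1.1 := congrArg Subtype.val h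
      have hv : ∀ r : {v : V // p v} × Bool, φ (if r.2 then sec r.1.1 * z else sec r.1.1) = r.1.1 :=
        fun r => by split_ifs <;> simp [phi_mul_z C (hsec _), hsecφ]
      have he : q.1 = q'.1 := Subtype.ext (by rw [← hv q, ← hv q', h'])
      rw [← he] at h'
      refine Prod.ext he ?_
      rcases q with ⟨q, _ | _⟩ <;> rcases q' with ⟨q', _ | _⟩ <;> simp at h' ⊢
      · exact C.ne_one h'
      · exact C.ne_one h'
    · rcases eq_of_phi C (hsec (φ a.1)) a.2.1 (hsecφ _) with h | h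
      · exact ⟨(⟨_, a.2.2⟩, false), Subtype.ext h.symm⟩
      · exact ⟨(⟨_, a.2.2⟩, true), Subtype.ext h.symm⟩
  rw [← Nat.card_congr (Equiv.ofBijective F hF), Nat.card_prod,
    Nat.card_eq_fintype_card (α := Bool), Fintype.card_bool, mul_comm]

/-- The members of the core commuting with one over the base vector. -/
theorem card_comm {s : G} (hs : s ∈ J) (hsv : φ s = v0) :
    Nat.card ↥(J ⊓ Subgroup.centralizer ({s} : Set G)) = 256 := by
  have h := card_pre C fun v => pol v0 v = false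
  rw [card_Pv] at h
  norm_num at h
  rw [← h]
  refine Nat.card_congr (Equiv.subtypeEquivRight fun a => ?_)
  rw [Subgroup.mem_inf, Subgroup.mem_centralizer_singleton_iff]
  refine and_congr_right fun ha => ?_
  rw [← hsv, pol_comm, ← comm_iff C ha hs]
  exact Iff.rfl

/-- The centraliser of a member over the base vector. -/
theorem card_cent_pair [Finite G] {s : G} (hs : s ∈ J) (hsv : φ s = v0) :
    Nat.card ↥(centralizer ({z} : Set G) ⊓ Subgroup.centralizer ({s} : Set G)) = 98304 := by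
  classical
  have h := H33.FiLocal.card_eq_orbit_mul (M := centralizer ({z} : Set G)) s
  have horb : ((fun m => m * s * m⁻¹) '' (centralizer ({z} : Set G) : Set G)) =
      {a | a ∈ J ∧ (φ a ≠ 0 ∧ qv (φ a) = false)} := by
    ext a
    constructor
    · rintro ⟨m, hm, rfl⟩
      refine ⟨C.conj_mem m hm s hs, sing_of_invol C (C.conj_mem m hm s hs) ?_ ?_ ?_⟩
      · rw [show m * s * m⁻¹ * (m * s * m⁻¹) = m * (s * s) * m⁻¹ by group, C.φ_sq s hs, hsv,
          base_facts.1]
        simp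
      · intro e
        have h1 : φ s = 0 := by
          rw [show s = 1 by simpa [mul_inv_eq_one] using e, phi_one C]
        exact base_facts.2.2.2.2.2.2.1 (hsv ▸ h1)
      · intro e
        have h1 : s = z := by
          have := congrArg (fun w => m⁻¹ * w * m) e
          simpa [mul_assoc, ← (comm_z hm).eq] using this
        exact base_facts.2.2.2.2.2.2.1 (hsv ▸ h1 ▸ phi_z C)
    · rintro ⟨ha, ha0, hq⟩
      obtain ⟨k, hk⟩ := to_base C ha ha0 hq
      rcases eq_of_phi C hs (C.conj_mem _ k.2 a ha) (hsv.trans hk.symm) with e | e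
      · exact ⟨(k : G)⁻¹, (centralizer ({z} : Set G)).inv_mem k.2, by rw [← e]; group⟩
      · -- move by a member of the core not commuting with `s`
        obtain ⟨w, hw, hwφ⟩ := C.φ_surj (smul4 2 u0)
        have hcomm := C.φ_comm w hw s hs
        rw [hwφ, hsv, pol_flip.1, if_pos rfl] at hcomm
        refine ⟨(k : G)⁻¹ * w, mul_mem ((centralizer ({z} : Set G)).inv_mem k.2) (J_cent C hw),
          ?_⟩
        have h2 : w * s * w⁻¹ = s * z := by
          rw [hcomm, mul_assoc s w z, (comm_z (J_cent C hw)).eq, ← mul_assoc, mul_inv_cancel_right]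
        show (k : G)⁻¹ * w * s * ((k : G)⁻¹ * w)⁻¹ = a
        rw [show (k : G)⁻¹ * w * s * ((k : G)⁻¹ * w)⁻¹ = (k : G)⁻¹ * (w * s * w⁻¹) * k by group,
          h2, ← e]
        group
  rw [horb, ← Nat.card_coe_set_eq] at h
  have hS : Nat.card ↥{a | a ∈ J ∧ (φ a ≠ 0 ∧ qv (φ a) = false)} = 270 := by
    refine (card_pre C fun v => v ≠ 0 ∧ qv v = false).trans ?_
    rw [Nat.card_eq_fintype_card, Fintype.card_subtype, singular_count]
  rw [hS, C.card_cent] at h
  exact Nat.eq_of_mul_eq_mul_left (show 0 < 270 by norm_num) (h.symm.trans (by norm_num))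

/-- A conjugate of `z` whose centraliser in `C(z)` is that of a member over the base vector lies in
the core. -/
theorem y_mem [Finite G] {g s : G} (hs : s ∈ J) (hsv : φ s = v0) (hg : g * z * g⁻¹ = s) :
    g⁻¹ * z * g ∈ J := by
  classical
  set y := g⁻¹ * z * g with hy
  have hgy : g * y * g⁻¹ = z := by rw [hy]; group
  have hyH : y ∈ centralizer ({z} : Set G) := Subgroup.mem_centralizer_singleton_iff.2 (by
    have h := (comm_z (J_cent C hs)).symm.conj g⁻¹
    rw [← hg, show g⁻¹ * (g * z * g⁻¹) * g⁻¹⁻¹ = z by group, inv_inv] at h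
    exact h.eq)
  let Cy := centralizer ({z} : Set G) ⊓ Subgroup.centralizer ({y} : Set G)
  let Cs := centralizer ({z} : Set G) ⊓ Subgroup.centralizer ({s} : Set G)
  have hmap : Cy.map (MulAut.conj g).toMonoidHom = Cs := by
    ext a
    simp only [Cy, Cs, Subgroup.mem_map, Subgroup.mem_inf, Subgroup.mem_centralizer_singleton_iff,
      MulEquiv.coe_toMonoidHom, MulAut.conj_apply]
    constructor
    · rintro ⟨b, ⟨hb1, hb2⟩, rfl⟩
      exact ⟨by have := (Commute.conj (show Commute b y from hb2) g).eq; rwa [hgy] at this,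
        by have := (Commute.conj (show Commute b z from hb1) g).eq; rwa [hg] at this⟩
    · rintro ⟨ha1, ha2⟩
      refine ⟨g⁻¹ * a * g, ⟨?_, ?_⟩, by group⟩
      · have := (Commute.conj (show Commute a s from ha2) g⁻¹).eq
        rw [← hg] at this
        simpa [mul_assoc] using this
      · have := (Commute.conj (show Commute a z from ha1) g⁻¹).eq
        simpa [hy, mul_assoc] using this
  have hCy : Nat.card Cy = 98304 := by
    rw [← card_cent_pair C hs hsv]
    show Nat.card Cy = Nat.card Cs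
    rw [← hmap]
    exact Nat.card_congr (Cy.equivMapOfInjective _ (MulAut.conj g).injective).toEquiv
  have : Fact (Nat.Prime 2) := ⟨Nat.prime_two⟩
  obtain ⟨P, hP⟩ := Sylow.exists_subgroup_card_pow_prime (G := Cy) 2 (n := 15)
    (by rw [hCy]; norm_num)
  let ι : P →* centralizer ({z} : Set G) := (Subgroup.inclusion inf_le_left).comp P.subtype
  let π := ρ.comp ι
  have hprod : Nat.card π.ker * Nat.card π.range = 32768 := by
    rw [← Subgroup.index_ker, Subgroup.card_mul_index, hP]; norm_num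
  have hrange : Nat.card ρ.range = 51840 := by
    have hker : Nat.card ρ.ker = 512 := by
      rw [show (512 : ℕ) = 2 ^ 9 by norm_num, ← C.card_J]
      refine Nat.card_congr ⟨fun k => ⟨((k : centralizer ({z} : Set G)) : G),
        (C.ρ_ker k.1).1 k.2⟩, fun j => ⟨⟨j, J_cent C j.2⟩, (C.ρ_ker _).2 j.2⟩,
        fun k => rfl, fun j => rfl⟩
    have h := ρ.ker.card_mul_index
    rw [Subgroup.index_ker, hker, C.card_cent] at h
    omega
  have hr : Nat.card π.range ≤ 128 := by
    have hd : Nat.card π.range ∣ 51840 := hrange ▸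
      Subgroup.card_dvd_of_le (by rintro _ ⟨p, rfl⟩; exact ⟨ι p, rfl⟩)
    exact uGroup_card_bound _ (Nat.le_of_dvd (by norm_num) hd) ⟨_, by rw [← hprod, mul_comm]⟩ hd
  have hker : 256 ≤ Nat.card π.ker := by
    have := Nat.mul_le_mul_left (Nat.card π.ker) hr
    omega
  set y' : centralizer ({z} : Set G) := ⟨y, hyH⟩
  by_contra hyJ
  have hne : ρ y' ≠ 1 := fun e => hyJ ((C.ρ_ker y').1 e)
  have hfix : Nat.card π.ker ≤ 2 * Nat.card {v : V // ρ y' v = v} := by
    rw [← card_pre C fun v => ρ y' v = v]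
    refine Nat.card_le_card_of_injective (fun p => ⟨(((p.1 : P) : Cy) : G),
      (C.ρ_ker _).1 p.2, ?_⟩) fun a b e => Subtype.ext (Subtype.ext (Subtype.ext
        (congrArg Subtype.val e :)))
    have hJ : (((p.1 : P) : Cy) : G) ∈ J := (C.ρ_ker _).1 p.2
    have hc : (((p.1 : P) : Cy) : G) * y = y * (((p.1 : P) : Cy) : G) :=
      Subgroup.mem_centralizer_singleton_iff.1 ((p.1 : P) : Cy).2.2
    rw [← phi_conj C y' hJ]
    show φ (y * _ * y⁻¹) = _
    rw [← hc, mul_inv_cancel_right]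
  by_cases h0 : y ∈ H₀
  · have := lin_fix_le (C.lin_of_mem y' h0) hne
    omega
  · have := anti_fix_le (C.anti_of_not_mem y' h0)
    omega

/-- The image of a subgroup of `C(z)`. -/
theorem card_image [Finite G] {L : Subgroup G} (hL : L ≤ centralizer ({z} : Set G)) :
    Nat.card ↥((L.subgroupOf (centralizer ({z} : Set G))).map ρ) * Nat.card ↥(L ⊓ J) =
      Nat.card L := by
  let ι : L →* centralizer ({z} : Set G) := Subgroup.inclusion hL
  let π := ρ.comp ι
  have h1 : π.range = (L.subgroupOf (centralizer ({z} : Set G))).map ρ := by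
    ext σ
    constructor
    · rintro ⟨l, rfl⟩
      exact ⟨ι l, l.2, rfl⟩
    · rintro ⟨a, ha, rfl⟩
      exact ⟨⟨(a : G), ha⟩, rfl⟩
  have h2 : Nat.card π.ker = Nat.card ↥(L ⊓ J) :=
    Nat.card_congr ⟨fun k => ⟨(k.1 : G), k.1.2, (C.ρ_ker _).1 k.2⟩,
      fun j => ⟨⟨(j : G), j.2.1⟩, (C.ρ_ker _).2 j.2.2⟩, fun k => rfl, fun j => rfl⟩
  rw [← h1, ← h2, ← π.ker.card_mul_index, Subgroup.index_ker, mul_comm]

/-- A lift fixing a member over the base vector. -/
theorem lift_fix {y : G} (hy : y ∈ J) (hyv : φ y = v0) {j : Fin 45} (hj : j ∈ jl) :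
    ∃ h : centralizer ({z} : Set G), ρ h = tv j ∧ Commute (h : G) y := by
  obtain ⟨t, ht⟩ := lift_tv C j
  have hφ : φ ((t : G) * y * (t : G)⁻¹) = v0 := by
    rw [phi_conj C t hy, ht, hyv]; exact jl_fix j hj
  rcases eq_of_phi C hy (C.conj_mem _ t.2 y hy) (hyv.trans hφ.symm) with e | e
  · exact ⟨t, ht, mul_inv_eq_iff_eq_mul.1 e⟩
  · obtain ⟨w, hw, hwφ⟩ := C.φ_surj (smul4 2 u0)
    have hcomm := C.φ_comm w hw y hy
    rw [hwφ, hyv, pol_flip.1, if_pos rfl] at hcomm
    have hwy : w * y * w⁻¹ = y * z := by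
      rw [hcomm, mul_assoc y w z, (comm_z (J_cent C hw)).eq, ← mul_assoc, mul_inv_cancel_right]
    have hwz : w * z * w⁻¹ = z := by rw [(comm_z (J_cent C hw)).eq, mul_inv_cancel_right]
    refine ⟨⟨w, J_cent C hw⟩ * t, ?_, mul_inv_eq_iff_eq_mul.1 ?_⟩
    · rw [map_mul, (C.ρ_ker _).2 hw, one_mul, ht]
    · show w * (t : G) * y * (w * (t : G))⁻¹ = y
      rw [show w * (t : G) * y * (w * (t : G))⁻¹ = w * ((t : G) * y * (t : G)⁻¹) * w⁻¹ by group, e,
        show w * (y * z) * w⁻¹ = (w * y * w⁻¹) * (w * z * w⁻¹) by group, hwy, hwz, mul_assoc,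
        C.sq, mul_one]

/-- The contradiction with both conjugates over the base vector. -/
theorem core [Finite G] {g s : G} (hs : s ∈ J) (hsv : φ s = v0) (hg : g * z * g⁻¹ = s)
    (hyJ : g⁻¹ * z * g ∈ J) (hyv : φ (g⁻¹ * z * g) = v0) : False := by
  classical
  set y := g⁻¹ * z * g with hy
  have hgy : g * y * g⁻¹ = z := by rw [hy]; group
  have hyH : y ∈ centralizer ({z} : Set G) := J_cent C hyJ
  have hyz : y ≠ z := fun e => base_facts.2.2.2.2.2.2.1 (hyv ▸ e ▸ phi_z C)
  have hy2 : y * y = 1 := by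
    rw [hy, show g⁻¹ * z * g * (g⁻¹ * z * g) = g⁻¹ * (z * z) * g by group, C.sq, mul_one,
      inv_mul_cancel]
  -- the core at `y`
  set J' := J.map (MulAut.conj g⁻¹).toMonoidHom with hJ'
  have hmem : ∀ a, a ∈ J' ↔ g * a * g⁻¹ ∈ J := fun a => by
    rw [hJ', Subgroup.mem_map]
    constructor
    · rintro ⟨b, hb, rfl⟩; simpa [mul_assoc] using hb
    · intro h; exact ⟨_, h, by simp [mul_assoc]⟩
  have hzJ' : z ∈ J' := (hmem z).2 (by rw [hg]; exact hs)
  have hyJ' : y ∈ J' := (hmem y).2 (by rw [hgy]; exact C.z_mem)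
  have htoy : ∀ a, g * a * g⁻¹ = z → a = y := fun a h => by
    rw [hy, ← h]; group
  have hJ'y : ∀ a ∈ J', Commute a y := fun a ha => by
    have h := (comm_z (J_cent C ((hmem a).1 ha))).conj g⁻¹
    simpa [hy, mul_assoc] using h
  have hnorm' : ∀ h : G, h ∈ centralizer ({z} : Set G) → Commute h y → ∀ a ∈ J', h * a * h⁻¹ ∈ J' := by
    intro h _ hhy a ha
    refine (hmem _).2 ?_
    have hgh : g * h * g⁻¹ ∈ centralizer ({z} : Set G) := Subgroup.mem_centralizer_singleton_iff.2 (by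
      have h1 := (hhy.conj g).eq
      rwa [hgy] at h1)
    have h2 := C.conj_mem _ hgh _ ((hmem a).1 ha)
    rwa [show g * h * g⁻¹ * (g * a * g⁻¹) * (g * h * g⁻¹)⁻¹ = g * (h * a * h⁻¹) * g⁻¹ by group]
      at h2
  have hsq' : ∀ a ∈ J', a * a = 1 ∨ a * a = y := fun a ha => by
    have h := C.φ_sq _ ((hmem a).1 ha)
    rw [show g * a * g⁻¹ * (g * a * g⁻¹) = g * (a * a) * g⁻¹ by group] at h
    split_ifs at h
    · exact Or.inr (htoy _ h)
    · exact Or.inl (by simpa using h)
  have hcomm' : ∀ a ∈ J', ∀ b ∈ J', a * b * a⁻¹ = b ∨ a * b * a⁻¹ = b * y := fun a ha b hb => by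
    have h := C.φ_comm _ ((hmem a).1 ha) _ ((hmem b).1 hb)
    split_ifs at h
    · right
      have h1 : a * b = b * a * y := by
        have h2 := congrArg (fun w => g⁻¹ * w * g) h
        simpa [hy, mul_assoc] using h2
      rw [h1, mul_assoc b a y, (hJ'y a ha).eq, ← mul_assoc, mul_inv_cancel_right]
    · left
      have h1 : a * b = b * a := by
        have h2 := congrArg (fun w => g⁻¹ * w * g) h
        simpa [mul_assoc] using h2
      rw [h1, mul_inv_cancel_right]
  -- the intersection of the cores and its image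
  set D := J ⊓ J' with hD
  let R : Subgroup VX :=
    { carrier := {v | ∃ d ∈ D, φ d = (v : V)}
      one_mem' := ⟨1, D.one_mem, phi_one C⟩
      mul_mem' := fun {a b} ⟨d, hd, hda⟩ ⟨d', hd', hdb⟩ =>
        ⟨d * d', D.mul_mem hd hd', (C.φ_mul d hd.1 d' hd'.1).trans (congrArg₂ vadd hda hdb)⟩
      inv_mem' := fun {a} ha => ha }
  have hzy1 : ∀ d : G, (d = 1 ∨ d = z) → (d = 1 ∨ d = y) → d = 1 := by
    rintro d (h | h) (h' | h') <;> first | exact h | exact h' | exact absurd (h'.symm.trans h) hyz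
  have hD2 : ∀ d ∈ D, d * d = 1 := fun d hd => hzy1 _
    ((C.φ_ker _ (J.mul_mem hd.1 hd.1)).1 (by rw [C.φ_mul d hd.1 d hd.1, H50.U6C.vadd_self]))
    (hsq' d hd.2)
  have hq : ∀ a : V, (a : VX) ∈ R → qv a = false := by
    rintro a ⟨d, hd, rfl⟩
    by_contra hne
    have h := C.φ_sq d hd.1
    rw [hD2 d hd, if_pos (Bool.eq_true_of_not_eq_false hne)] at h
    exact C.ne_one h.symm
  have hp : ∀ a b : V, (a : VX) ∈ R → (b : VX) ∈ R → pol a b = false := by
    rintro a b ⟨d, hd, rfl⟩ ⟨d', hd', rfl⟩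
    refine (comm_iff C hd.1 hd'.1).1 ?_
    have h1 : d * d' * d⁻¹ * d'⁻¹ = 1 := hzy1 _
      ((C.φ_ker _ (J.mul_mem (J.mul_mem (J.mul_mem hd.1 hd'.1) (J.inv_mem hd.1))
        (J.inv_mem hd'.1))).1 (by
          rw [C.φ_mul _ (J.mul_mem (J.mul_mem hd.1 hd'.1) (J.inv_mem hd.1)) _ (J.inv_mem hd'.1),
            C.φ_mul _ (J.mul_mem hd.1 hd'.1) _ (J.inv_mem hd.1), C.φ_mul d hd.1 d' hd'.1,
            phi_inv C hd.1, phi_inv C hd'.1, H50.U6C.vadd_comm (φ d) (φ d'), H50.U6C.vadd_assoc (φ d'),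
            H50.U6C.vadd_self, vadd_zero', H50.U6C.vadd_self]))
      (by
        rcases hcomm' d hd.2 d' hd'.2 with h | h <;> rw [h]
        · exact Or.inl (mul_inv_cancel d')
        · exact Or.inr (by rw [(hJ'y d' hd'.2).eq, mul_inv_cancel_right]))
    exact mul_inv_eq_iff_eq_mul.1 (mul_inv_eq_one.1 h1)
  have hv : (v0 : VX) ∈ R := ⟨y, ⟨hyJ, hyJ'⟩, hyv⟩
  have hinv : ∀ j ∈ jl, ∀ a : V, (a : VX) ∈ R → ((tvFun j a : V) : VX) ∈ R := by
    rintro j hj a ⟨d, hd, rfl⟩
    obtain ⟨h, hh, hhy⟩ := lift_fix C hyJ hyv hj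
    exact ⟨(h : G) * d * (h : G)⁻¹, ⟨C.conj_mem _ h.2 d hd.1, hnorm' _ h.2 hhy d hd.2⟩, by
      rw [phi_conj C h hd.1, hh]; rfl⟩
  have hDR : Nat.card D = 2 * Nat.card R := by
    have h := card_pre C fun v => (v : VX) ∈ R
    refine (Nat.card_congr (Equiv.subtypeEquivRight fun a => ⟨fun ha => ⟨ha.1, a, ha, rfl⟩, ?_⟩)).trans h
    rintro ⟨ha, d, hd, hda⟩
    rcases eq_of_phi C hd.1 ha hda with e | e <;> rw [e]
    · exact hd
    · exact D.mul_mem hd ⟨C.z_mem, hzJ'⟩
  -- the centraliser of `z` in the core at `y`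
  set B := J' ⊓ centralizer ({z} : Set G) with hB
  have hcardB : Nat.card B = 256 := by
    rw [← card_comm C hs hsv]
    refine Nat.card_congr ((MulAut.conj g).toEquiv.subtypeEquiv fun a => ?_)
    show a ∈ J' ∧ a ∈ centralizer ({z} : Set G) ↔
      g * a * g⁻¹ ∈ J ∧ g * a * g⁻¹ ∈ Subgroup.centralizer ({s} : Set G)
    rw [hmem, Subgroup.mem_centralizer_singleton_iff, Subgroup.mem_centralizer_singleton_iff, ← hg]
    exact and_congr_right fun _ => (Commute.conj_iff g).symm
  have hfixv : ∀ b : centralizer ({z} : Set G), (b : G) ∈ J' → ρ b v0 = v0 := fun b hb => by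
    rw [← hyv, ← phi_conj C b hyJ, (hJ'y _ hb).eq, mul_inv_cancel_right]
  have hinvol : ∀ b : centralizer ({z} : Set G), (b : G) ∈ J' → ρ b * ρ b = 1 := fun b hb => by
    rw [← map_mul]
    refine (C.ρ_ker _).2 ?_
    rcases hsq' _ hb with h | h
    · rw [show ((b * b : centralizer ({z} : Set G)) : G) = 1 from h]; exact J.one_mem
    · rw [show ((b * b : centralizer ({z} : Set G)) : G) = y from h]; exact hyJ
  have hcom : ∀ b : centralizer ({z} : Set G), (b : G) ∈ J' → ∀ a : V, pol v0 a = false →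
      ((vadd (ρ b a) a : V) : VX) ∈ R := by
    intro b hb a ha
    obtain ⟨j, hj, rfl⟩ := C.φ_surj a
    have hjy : Commute j y := (comm_iff C hj hyJ).2 (by rw [hyv, pol_comm, ha])
    refine ⟨(b : G) * j * (b : G)⁻¹ * j⁻¹, ⟨J.mul_mem (C.conj_mem _ b.2 j hj) (J.inv_mem hj), ?_⟩, ?_⟩
    · rw [show (b : G) * j * (b : G)⁻¹ * j⁻¹ = (b : G) * (j * (b : G)⁻¹ * j⁻¹) by group]
      exact J'.mul_mem hb (hnorm' j (J_cent C hj) hjy _ (J'.inv_mem hb))
    · rw [C.φ_mul _ (C.conj_mem _ b.2 j hj) _ (J.inv_mem hj), phi_conj C b hj, phi_inv C hj]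
  have hRR : ∀ b : centralizer ({z} : Set G), (b : G) ∈ J' → ∀ a : V, (a : VX) ∈ R →
      ρ b a = a ∨ ρ b a = vadd a v0 := by
    rintro b hb a ⟨d, hd, rfl⟩
    rw [← phi_conj C b hd.1]
    rcases hcomm' _ hb d hd.2 with h | h
    · exact Or.inl (by rw [h])
    · exact Or.inr (by rw [h, C.φ_mul d hd.1 y hyJ, hyv])
  -- the linear part
  set B₀ := B ⊓ H₀ with hB₀
  set K := (B₀.subgroupOf (centralizer ({z} : Set G))).map ρ with hK
  have hB₀le : B₀ ≤ centralizer ({z} : Set G) := inf_le_left.trans inf_le_right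
  have hKmem : ∀ e ∈ K, ∃ b : centralizer ({z} : Set G), (b : G) ∈ J' ∧ (b : G) ∈ H₀ ∧ ρ b = e := by
    rintro e ⟨b, hb, rfl⟩
    exact ⟨b, hb.1.1, hb.2, rfl⟩
  have hKlin : ∀ e ∈ K, IsLin e := fun e he => by
    obtain ⟨b, -, hb, rfl⟩ := hKmem e he
    exact C.lin_of_mem b hb
  have hKfix : ∀ e ∈ K, e v0 = v0 := fun e he => by
    obtain ⟨b, hb, -, rfl⟩ := hKmem e he
    exact hfixv b hb
  have hKsq : ∀ e ∈ K, e * e = 1 := fun e he => by
    obtain ⟨b, hb, -, rfl⟩ := hKmem e he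
    exact hinvol b hb
  have htwo : (∀ e ∈ K, ∀ x : V, herm v0 x = 0 → ∃ c < 4, vadd (e x) x = smul4 c v0) →
      (∀ e ∈ K, wOf e = 0 ∨ wOf e = v0) → Nat.card K ≤ 2 := by
    intro hflag hw
    refine le_trans (Nat.card_le_card_of_injective (fun e : K => decide (wOf e.1 = 0))
      fun a b h => ?_) (by rw [Nat.card_eq_fintype_card, Fintype.card_bool])
    have hwab : wOf a.1 = wOf b.1 := by
      simp only [decide_eq_decide] at h
      rcases hw _ a.2 with h1 | h1 <;> rcases hw _ b.2 with h2 | h2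
      · rw [h1, h2]
      · rw [h1, h.1 h1]
      · rw [h.2 h2, h2]
      · rw [h1, h2]
    refine Subtype.ext (Equiv.ext fun v => ?_)
    rw [(eq_rad (hKlin _ a.2) (hKfix _ a.2) (hflag _ a.2)).1 v,
      (eq_rad (hKlin _ b.2) (hKfix _ b.2) (hflag _ b.2)).1 v, hwab]
  have hhalf : 128 ≤ Nat.card B₀ := by
    have hidx := H0_index C
    let F : B → B₀ ⊕ B₀ := fun b =>
      if h : (b : G) ∈ H₀ then Sum.inl ⟨b, b.2, h⟩
      else if h' : ∃ b₁ : B, (b₁ : G) ∉ H₀ then
        Sum.inr ⟨(h'.choose : G)⁻¹ * b, B.mul_mem (B.inv_mem h'.choose.2) b.2, by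
          have h1 : ((⟨(h'.choose : G), h'.choose.2.2⟩ : centralizer ({z} : Set G))⁻¹ * ⟨b, b.2.2⟩) ∈
              H₀.subgroupOf (centralizer ({z} : Set G)) := by
            rw [Subgroup.mul_mem_iff_of_index_two hidx, Subgroup.inv_mem_iff, Subgroup.mem_subgroupOf,
              Subgroup.mem_subgroupOf]
            exact iff_of_false h'.choose_spec h
          exact h1⟩
      else Sum.inl 1
    have hF : Function.Injective F := by
      intro a b h
      simp only [F] at h
      split_ifs at h with ha ha' hb hb'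
      all_goals first
        | exact Subtype.ext (congrArg Subtype.val (Sum.inl_injective h) :)
        | exact Subtype.ext (mul_left_cancel (congrArg Subtype.val (Sum.inr_injective h) :))
        | exact absurd ⟨_, ‹(a : G) ∉ H₀›⟩ ‹¬ ∃ b₁ : B, (b₁ : G) ∉ H₀›
        | exact absurd ⟨_, ‹(b : G) ∉ H₀›⟩ ‹¬ ∃ b₁ : B, (b₁ : G) ∉ H₀›
        | exact absurd h (by simp)
    have h := Nat.card_le_card_of_injective F hF
    rw [Nat.card_sum, hcardB] at h
    omega
  have himg := card_image C hB₀le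
  have hBD : Nat.card ↥(B₀ ⊓ J) ≤ Nat.card D :=
    Subgroup.card_le_of_le fun a ha => ⟨ha.2, ha.1.1.1⟩
  -- the omega multiple lies in the image
  have hw : ((smul4 2 v0 : V) : VX) ∈ R := by
    by_contra hno
    have hsmall : ∀ r : V, (r : VX) ∈ R → r = 0 ∨ r = v0 := fun r hr => by
      by_contra hne
      rw [not_or] at hne
      exact hno (omega_mem R hq hp hv hinv ⟨r, hr, hne⟩)
    have hR2 : Nat.card R ≤ 2 := by
      refine le_trans (Nat.card_le_card_of_injective (fun r : R => decide (@Eq V r.1 0))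
        fun a b h => ?_) (by rw [Nat.card_eq_fintype_card, Fintype.card_bool])
      simp only [decide_eq_decide] at h
      rcases hsmall _ a.2 with h1 | h1 <;> rcases hsmall _ b.2 with h2 | h2
      · exact Subtype.ext (h1.trans h2.symm)
      · exact Subtype.ext (h1.trans (h.1 h1).symm)
      · exact Subtype.ext ((h.2 h2).trans h2.symm)
      · exact Subtype.ext (h1.trans h2.symm)
    have h2 := htwo (fun e he x hx => by
        obtain ⟨b, hb, -, rfl⟩ := hKmem e he
        rcases hsmall _ (hcom b hb x (pol_of_herm_zero hx)) with h | h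
        · exact ⟨0, by norm_num, h.trans (smul4_zero_left v0).symm⟩
        · exact ⟨1, by norm_num, h.trans (smul4_one v0).symm⟩)
      fun e he => by
        obtain ⟨b, hb, -, rfl⟩ := hKmem e he
        exact hsmall _ (hcom b hb u0 pol_flip.2)
    have := Nat.mul_le_mul h2 hBD
    rw [← hK] at himg
    omega
  -- some element acts semilinearly
  obtain ⟨d, hd, hdv⟩ := hw
  have hanti : ∃ b : centralizer ({z} : Set G), (b : G) ∈ J' ∧ (b : G) ∉ H₀ := by
    by_contra hno
    push Not at hno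
    have hfixd : ∀ b : centralizer ({z} : Set G), (b : G) ∈ J' → Commute (b : G) d := fun b hb => by
      have hl := C.lin_of_mem b (hno b hb)
      have hφ : φ ((b : G) * d * (b : G)⁻¹) = φ d := by
        rw [phi_conj C b hd.1, hdv, smul_two hl, hfixv b hb]
      rcases hcomm' _ hb d hd.2 with h | h
      · exact mul_inv_eq_iff_eq_mul.1 h
      · exfalso
        rw [h, C.φ_mul d hd.1 y hyJ, hyv] at hφ
        have h1 := congrArg (vadd (φ d)) hφ
        rw [← H50.U6C.vadd_assoc, H50.U6C.vadd_self, vadd_zero_left] at h1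
        exact base_facts.2.2.2.2.2.2.1 h1
    have hd' : g * d * g⁻¹ ∈ J := (hmem d).1 hd.2
    have hall : ∀ x ∈ ([1, 2, 4, 8, 16, 64, 160] : List V), pol (φ (g * d * g⁻¹)) x = false := by
      intro x hx
      obtain ⟨a, ha, rfl⟩ := C.φ_surj x
      have has : Commute a s := (comm_iff C ha hs).2 (by rw [hsv, pol_comm]; exact pol_basis _ hx)
      have hbJ' : g⁻¹ * a * g ∈ J' := (hmem _).2 (by simpa [mul_assoc] using ha)
      have hbH : g⁻¹ * a * g ∈ centralizer ({z} : Set G) := Subgroup.mem_centralizer_singleton_iff.2 (by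
        have h1 := (has.conj g⁻¹).eq
        rw [← hg] at h1
        simpa [mul_assoc] using h1)
      have h1 := (hfixd ⟨_, hbH⟩ hbJ').conj g
      refine (comm_iff C hd' ha).1 ?_
      simpa [mul_assoc] using h1.symm
    rcases pol_radical _ hall with h | h
    · rcases (C.φ_ker _ hd').1 h with h1 | h1
      · have : d = 1 := by simpa using h1
        rw [this, phi_one C] at hdv
        exact base_facts.2.2.2.2.2.2.2.1 hdv.symm
      · rw [htoy d h1, hyv] at hdv
        exact base_facts.2.2.2.2.2.2.2.2.1 hdv.symm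
    · rcases eq_of_phi C hs hd' (hsv.trans h.symm) with h1 | h1
      · have hdz : d = z := mul_left_cancel (mul_right_cancel (h1.trans hg.symm))
        rw [hdz, phi_z C] at hdv
        exact base_facts.2.2.2.2.2.2.2.1 hdv.symm
      · have hdz : d = z * y := by
          refine mul_left_cancel (mul_right_cancel (h1.trans ?_) : g * d = g * (z * y))
          rw [show g * (z * y) * g⁻¹ = (g * z * g⁻¹) * (g * y * g⁻¹) by group, hg, hgy]
        rw [hdz, C.φ_mul z C.z_mem y hyJ, phi_z C, vadd_zero_left, hyv] at hdv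
        exact base_facts.2.2.2.2.2.2.2.2.1 hdv.symm
  obtain ⟨b, hbJ', hb0⟩ := hanti
  have hf := C.anti_of_not_mem b hb0
  have hw : ((smul4 2 v0 : V) : VX) ∈ R := ⟨d, hd, hdv⟩
  obtain ⟨hR16, hW8⟩ := anti_core R hp hv hw hf (hinvol b hbJ') (hfixv b hbJ') (hcom b hbJ')
    (hRR b hbJ')
  have hB₀128 : Nat.card B₀ = 128 := by
    have hle : B₀ ≤ B := inf_le_left
    obtain ⟨k, hk⟩ := Subgroup.card_dvd_of_le hle
    have hne : k ≠ 1 := fun e => by
      rw [e, mul_one] at hk
      have heq := Subgroup.eq_of_le_of_card_ge hle hk.le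
      have : (b : G) ∈ B₀ := heq.symm ▸ (⟨hbJ', b.2⟩ : (b : G) ∈ B)
      exact hb0 this.2
    rw [hcardB] at hk
    rcases k with _ | _ | k
    · simp at hk
    · exact absurd rfl hne
    · nlinarith
  have hK4 : Nat.card K = 4 := by
    have hD32 : Nat.card D = 32 := by rw [hDR, hR16]
    have heq : B₀ ⊓ J = D := le_antisymm (fun a ha => ⟨ha.2, ha.1.1.1⟩) fun a ha =>
      ⟨⟨⟨ha.2, J_cent C ha.1⟩, C.J_le ha.1⟩, ha.1⟩
    rw [← hK, hB₀128, heq, hD32] at himg
    omega
  have hflag : ∀ e ∈ K, ∀ x : V, herm v0 x = 0 → ∃ c < 4, vadd (e x) x = smul4 c v0 := by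
    intro e he x hx
    obtain ⟨b', hb', hb'0, rfl⟩ := hKmem e he
    refine line_only R hv hw hf hR16 hW8 (hcom b' hb' x (pol_of_herm_zero hx)) ?_
    rw [smul4_vadd (by norm_num), ← smul_two (C.lin_of_mem b' hb'0)]
    refine hcom b' hb' _ (pol_of_herm_zero ?_)
    rw [herm_smul_right (by norm_num), hx]
    rfl
  have hnormK : ∀ j ∈ jl, ∀ e ∈ K, tv j * e * tv j ∈ K := by
    intro j hj e he
    obtain ⟨b', hb', hb'0, rfl⟩ := hKmem e he
    obtain ⟨h, hh, hhy⟩ := lift_fix C hyJ hyv hj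
    refine ⟨h * b' * h⁻¹, ⟨⟨hnorm' _ h.2 hhy _ hb', (h * b' * h⁻¹).2⟩, ?_⟩, ?_⟩
    · haveI : (H₀.subgroupOf (centralizer ({z} : Set G))).Normal :=
        Subgroup.normal_of_index_eq_two (H0_index C)
      exact this.conj_mem b' hb'0 h
    · rw [map_mul, map_mul, map_inv, hh,
        show (tv j)⁻¹ = tv j from inv_eq_of_mul_eq_one_right (tv_sq j)]
  have := htwo hflag (flag_le_two K hKlin hKsq hKfix hflag hnormK hK4.le)
  omega

omit C in
/-- The central involution is weakly closed in its core. -/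
theorem wcjTwo : WCJTwoStmt.{u} := by
  intro G _ _ z J H₀ φ ρ C a ha hconj
  by_contra haz
  have hne : a ≠ 1 := fun e => C.ne_one (isConj_one_left.1 (e ▸ hconj))
  obtain ⟨g, hg⟩ := isConj_iff.1 hconj
  have ha2 : a * a = 1 := by
    rw [← hg, show g * z * g⁻¹ * (g * z * g⁻¹) = g * (z * z) * g⁻¹ by group, C.sq]; group
  obtain ⟨ha0, haq⟩ := sing_of_invol C ha ha2 hne haz
  obtain ⟨h, hh⟩ := to_base C ha ha0 haq
  set s := (h : G) * a * (h : G)⁻¹ with hs
  have hsJ : s ∈ J := C.conj_mem _ h.2 a ha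
  set g₁ := (h : G) * g with hg1
  have hg1s : g₁ * z * g₁⁻¹ = s := by rw [hs, ← hg, hg1]; group
  set y := g₁⁻¹ * z * g₁ with hy
  have hyJ : y ∈ J := y_mem C hsJ hh hg1s
  have hy2 : y * y = 1 := by
    rw [hy, show g₁⁻¹ * z * g₁ * (g₁⁻¹ * z * g₁) = g₁⁻¹ * (z * z) * g₁ by group, C.sq]; group
  have hy1 : y ≠ 1 := fun e => C.ne_one (by
    have := congrArg (fun w => g₁ * w * g₁⁻¹) e
    simpa [hy, mul_assoc] using this)
  have hyz : y ≠ z := fun e => by
    have hc : g₁ * z = z * g₁ := by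
      conv_lhs => rw [← e, hy]
      group
    have hsz : s = z := by rw [← hg1s, hc, mul_inv_cancel_right]
    rw [hsz, phi_z C] at hh
    exact base_facts.2.2.2.2.2.2.1 hh.symm
  obtain ⟨hy0, hyq⟩ := sing_of_invol C hyJ hy2 hy1 hyz
  obtain ⟨k, hk⟩ := to_base C hyJ hy0 hyq
  have hkz : (k : G)⁻¹ * z * k = z := by
    rw [mul_assoc, ← (comm_z k.2).eq, inv_mul_cancel_left]
  refine core C (g := g₁ * (k : G)⁻¹) hsJ hh ?_ ?_ ?_
  · rw [mul_inv_rev, inv_inv, show g₁ * (k : G)⁻¹ * z * ((k : G) * g₁⁻¹) =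
      g₁ * ((k : G)⁻¹ * z * k) * g₁⁻¹ by group, hkz, hg1s]
  · rw [show (g₁ * (k : G)⁻¹)⁻¹ * z * (g₁ * (k : G)⁻¹) = (k : G) * y * (k : G)⁻¹ by rw [hy]; group]
    exact C.conj_mem _ k.2 y hyJ
  · rw [show (g₁ * (k : G)⁻¹)⁻¹ * z * (g₁ * (k : G)⁻¹) = (k : G) * y * (k : G)⁻¹ by rw [hy]; group]
    exact hk

end H33.U6E
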