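import Cfsg.Agent.H50.U6C.Model

/-!
Finite facts about the stabiliser of a singular vector of the natural module: paths of transvections
to the base vector, the subspaces it leaves invariant, and its small invariant sets of unipotents.
-/

set_option autoImplicit false
set_option maxRecDepth 100000

namespace H33.U6E.Cert

open H38.U6C

/-- The base singular vector. -/
abbrev v0 : V := 80

/-- A singular vector with product one with the base vector. -/
abbrev u0 : V := 17

/-- The transvections fixing the base vector. -/
def jl : List (Fin 45) := [0, 15, 16, 20, 24, 25, 26, 30, 34, 35, 36, 40, 44]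

/-- For each singular vector, transvections carrying it to the base vector. -/
def words : List (List (Fin 45)) := [
[], [], [], [], [], [12, 3], [14, 3], [13, 3], [], [12, 5], [14, 5], [13, 5],
[], [12, 4], [14, 4], [13, 4], [], [9], [11], [10], [3], [], [], [],
[5], [], [], [], [4], [], [], [], [], [11, 2], [10, 2], [9, 2],
[5, 2], [], [], [], [4, 2], [], [], [], [3, 2], [], [], [],
[], [10, 1], [9, 1], [11, 1], [4, 1], [], [], [], [3, 1], [], [], [],
[5, 1], [], [], [], [], [12], [14], [13], [6], [], [], [],
[8], [], [], [], [7], [], [], [], [], [], [], [],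
[], [21, 1], [37, 1], [32, 1], [], [31, 1], [17, 1], [42, 1], [], [41, 1], [27, 1], [22, 1],
[7, 6], [], [], [], [], [42, 5], [31, 5], [17, 5], [], [22, 4], [41, 4], [27, 4],
[], [32, 3], [21, 3], [37, 3], [8, 6], [], [], [], [], [29, 4], [18, 4], [43, 4],
[], [39, 3], [28, 3], [23, 3], [], [19, 5], [38, 5], [33, 5], [], [14, 1], [13, 1], [12, 1],
[8, 1], [], [], [], [7, 1], [], [], [], [6, 1], [], [], [],
[4, 3], [], [], [], [], [38, 8], [33, 8], [19, 8], [], [18, 7], [43, 7], [29, 7],
[], [28, 6], [23, 6], [39, 6], [8, 6, 1], [], [], [], [], [43, 5], [29, 5], [18, 5],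
[], [23, 4], [39, 4], [28, 4], [], [33, 3], [19, 3], [38, 3], [1], [], [], [],
[], [21], [37], [32], [], [31], [17], [42], [], [41], [27], [22],
[], [13, 2], [12, 2], [14, 2], [7, 2], [], [], [], [6, 2], [], [], [],
[8, 2], [], [], [], [5, 3], [], [], [], [], [27, 7], [22, 7], [41, 7],
[], [37, 6], [32, 6], [21, 6], [], [17, 8], [42, 8], [31, 8], [2], [], [], [],
[], [23], [39], [28], [], [33], [19], [38], [], [43], [29], [18],
[4, 3, 1], [], [], [], [], [31, 4], [17, 4], [42, 4], [], [41, 3], [27, 3], [22, 3],
[], [21, 5], [37, 5], [32, 5]]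

/-- Successive transvections. -/
def run : List (Fin 45) → V → V
  | [], a => a
  | i :: l, a => run l (tvFun i a)

theorem words_ok : ∀ v : V, qv v = false → v ≠ 0 → run (words.getD v.val []) v = v0 := by
  decide +kernel

theorem jl_fix : ∀ j ∈ jl, tvFun j v0 = v0 := by decide +kernel

/-- The test for an omega multiple of the base vector. -/
def isW (a : V) : Bool := a == smul4 2 v0 || a == smul4 3 v0

/-- Two steps from `a` differing by such a multiple. -/
def hit (a : V) : Bool := jl.any fun i => jl.any fun j => isW (vadd (tvFun i a) (tvFun j a))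

/-- Such a multiple is reached from `r`. -/
def reach (r : V) : Bool := isW r || hit r || jl.any fun k => hit (vadd (tvFun k r) r)

theorem reach_ok : ∀ r : V, qv r = false → pol v0 r = false → r = 0 ∨ r = v0 ∨ reach r = true := by
  decide +kernel

theorem perp_card :
    (Finset.univ.filter fun a : V => pol v0 a = false).card = 128 := by decide +kernel

theorem base_facts : qv v0 = false ∧ qv u0 = false ∧ herm v0 u0 = 1 ∧ herm u0 v0 = 1 ∧
    herm v0 v0 = 0 ∧ pol v0 u0 = false ∧ v0 ≠ 0 ∧ smul4 2 v0 ≠ 0 ∧ smul4 2 v0 ≠ v0 ∧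
    pol v0 (smul4 2 v0) = false ∧ vadd (smul4 3 v0) v0 = smul4 2 v0 := by decide +kernel

/-- The map with parameter `w` fixing the flag at the base vector. -/
def rad (w a : V) : V :=
  vadd (vadd a (smul4 (herm v0 a) w)) (smul4 (herm w (vadd a (smul4 (herm v0 a) u0))) v0)

/-- The parameter of a conjugate. -/
def par (j : Fin 45) (w : V) : V := vadd (tvFun j (rad w (tvFun j u0))) u0

theorem orbit_big : ∀ w : V, herm v0 w = 0 → w ≠ 0 → w ≠ v0 → qv (vadd u0 w) = false →
    rad w (rad w u0) = u0 → 4 < (w :: jl.map fun j => par j w).dedup.length := by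
  decide +kernel

end H33.U6E.Cert
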