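import Cfsg.Agent.H2.U6E.Basic
import Cfsg.Agent.H50.U6C.Model

/-!
Linear algebra of a semilinear involution of the natural module and of an element of order five
centralising it: the fixed space has order 16 and spans, and the element of order five leaves only
trivial subspaces of it invariant.
-/

set_option autoImplicit false

namespace H33.U6E

open H38.U6C H50.U6C H2.U6E

/-- The module with addition written multiplicatively. -/
def VX : Type := V

noncomputable instance : Fintype VX := inferInstanceAs (Fintype V)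

instance : Mul VX := ⟨fun a b => vadd a b⟩
instance : One VX := ⟨(0 : V)⟩
instance : Inv VX := ⟨fun a => a⟩

theorem vadd_zero_left (a : V) : vadd 0 a = a := by rw [vadd_comm, vadd_zero']

instance : Group VX :=
  Group.ofLeftAxioms (fun a b c => vadd_assoc a b c) (fun a => vadd_zero_left a)
    (fun a => vadd_self a)

theorem card_VX : Nat.card VX = 256 := by
  show Nat.card V = 256
  rw [Nat.card_eq_fintype_card, Fintype.card_fin]

theorem vadd_eq_zero {a b : V} (h : vadd a b = 0) : a = b := by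
  have := congrArg (vadd a) h
  rw [← vadd_assoc, vadd_self, vadd_zero_left, vadd_zero'] at this
  exact this.symm

theorem omega_identity (v w : V) :
    vadd (vadd (smul4 2 v) (smul4 3 w)) (smul4 3 (vadd v w)) = v := by
  rw [smul4_vadd (by norm_num) v w, vadd_assoc, ← vadd_assoc (smul4 3 w), vadd_comm (smul4 3 w),
    vadd_assoc (smul4 3 v), vadd_self, vadd_zero', ← smul4_xor (by norm_num) (by norm_num),
    show (2 ^^^ 3 : ℕ) = 1 by decide, smul4_one]

theorem smul_fix {a : V} (h : smul4 3 a = smul4 2 a) : a = 0 := by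
  have h1 := congrArg (vadd (smul4 2 a)) h
  rwa [← smul4_xor (by norm_num) (by norm_num), vadd_self,
    show (2 ^^^ 3 : ℕ) = 1 by decide, smul4_one] at h1

theorem add_zero_of {f : Equiv.Perm V} (h : ∀ a b, f (vadd a b) = vadd (f a) (f b)) : f 0 = 0 := by
  have h1 := h 0 0
  rwa [vadd_self, vadd_self] at h1

theorem smul_two {f : Equiv.Perm V} (hf : IsLin f) (a : V) : f (smul4 2 a) = smul4 2 (f a) :=
  hf.smul 2 a

theorem anti_two {f : Equiv.Perm V} (hf : IsAnti f) (a : V) : f (smul4 2 a) = smul4 3 (f a) := by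
  have h := hf.smul 2 a
  rwa [show fconj ((2 : Fin 4) : ℕ) = 3 by decide] at h

theorem anti_three {f : Equiv.Perm V} (hf : IsAnti f) (a : V) : f (smul4 3 a) = smul4 2 (f a) := by
  have h := hf.smul 3 a
  rwa [show fconj ((3 : Fin 4) : ℕ) = 2 by decide] at h

theorem lin_not_anti {f : Equiv.Perm V} (hl : IsLin f) (ha : IsAnti f) : False := by
  have h : f 1 = 0 := smul_fix ((anti_two ha 1).symm.trans (smul_two hl 1))
  exact absurd (f.injective (h.trans (add_zero_of ha.add).symm)) (by decide)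

variable {σ γ : Equiv.Perm V}

theorem OutPair.apply_apply (P : OutPair σ γ) (v : V) : σ (σ v) = v :=
  DFunLike.congr_fun P.invol v

theorem shift_fix (P : OutPair σ γ) (v : V) : σ (vadd v (σ v)) = vadd v (σ v) := by
  rw [P.anti.add, OutPair.apply_apply P, vadd_comm]

/-- Every fixed vector is `σ v + v` for some `v`. -/
theorem shift_onto (P : OutPair σ γ) {u : V} (hu : σ u = u) :
    vadd (σ (smul4 2 u)) (smul4 2 u) = u := by
  rw [anti_two P.anti, hu, ← smul4_xor (by norm_num) (by norm_num),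
    show (3 ^^^ 2 : ℕ) = 1 by decide, smul4_one]

theorem decomp (P : OutPair σ γ) (v : V) :
    vadd (vadd (smul4 2 v) (σ (smul4 2 v))) (smul4 3 (vadd v (σ v))) = v := by
  rw [anti_two P.anti]
  exact omega_identity v (σ v)

/-- The fixed space. -/
abbrev Fx (σ : Equiv.Perm V) : Type := {v : V // σ v = v}

theorem card_fix (P : OutPair σ γ) : Nat.card (Fx σ) = 16 := by
  let F : Fx σ × Fx σ → V := fun q => vadd q.1.1 (smul4 3 q.2.1)
  have hF : Function.Bijective F := by
    refine ⟨fun q q' h => ?_, fun v => ⟨⟨⟨_, shift_fix P (smul4 2 v)⟩, ⟨_, shift_fix P v⟩⟩,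
      decomp P v⟩⟩
    have h1 : vadd (vadd q.1.1 (smul4 3 q.2.1)) (vadd q'.1.1 (smul4 3 q'.2.1)) = 0 := by
      rw [show vadd q.1.1 (smul4 3 q.2.1) = vadd q'.1.1 (smul4 3 q'.2.1) from h, vadd_self]
    rw [vadd_vadd_vadd, ← smul4_vadd (by norm_num)] at h1
    have hd := vadd_eq_zero h1
    have he : vadd q.2.1 q'.2.1 = 0 := by
      refine smul_fix ?_
      have h2 := congrArg σ hd
      rw [P.anti.add, q.1.2, q'.1.2, hd, anti_three P.anti, P.anti.add, q.2.2, q'.2.2] at h2
      exact h2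
    rw [he, show smul4 3 (0 : V) = 0 by decide] at hd
    exact Prod.ext (Subtype.ext (vadd_eq_zero hd)) (Subtype.ext (vadd_eq_zero he))
  have h := Nat.card_congr (Equiv.ofBijective F hF)
  rw [Nat.card_prod, Nat.card_eq_fintype_card (α := V), Fintype.card_fin] at h
  exact Nat.mul_self_inj.1 (h.trans (by norm_num))

/-- A linear map fixing the fixed space pointwise is trivial. -/
theorem lin_eq_one (P : OutPair σ γ) {f : Equiv.Perm V} (hf : IsLin f)
    (h : ∀ u, σ u = u → f u = u) : f = 1 := Equiv.ext fun v => by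
  conv_lhs => rw [← decomp P v]
  rw [hf.add, h _ (shift_fix P _), show f (smul4 3 (vadd v (σ v))) = smul4 3 (f (vadd v (σ v))) from
    hf.smul 3 _, h _ (shift_fix P _), decomp P v]
  rfl

theorem gamma_fix (P : OutPair σ γ) {u : V} (hu : σ u = u) : σ (γ u) = γ u := by
  have h := DFunLike.congr_fun P.comm u
  simp only [Equiv.Perm.mul_apply, hu] at h
  exact h

/-- `γ + 1` is onto the fixed space. -/
theorem gamma_onto (P : OutPair σ γ) {u : V} (hu : σ u = u) :
    ∃ v, σ v = v ∧ vadd (γ v) v = u := by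
  let F : Fx σ → Fx σ := fun v => ⟨vadd (γ v.1) v.1, by rw [P.anti.add, gamma_fix P v.2, v.2]⟩
  have hinj : Function.Injective F := fun v w h => by
    refine Subtype.ext (vadd_eq_zero (P.free _ (by rw [P.anti.add, v.2, w.2]) ?_))
    have h' : vadd (γ v.1) v.1 = vadd (γ w.1) w.1 := congrArg Subtype.val h
    refine vadd_eq_zero ?_
    rw [P.lin.add, vadd_vadd_vadd, h', vadd_self]
  obtain ⟨v, hv⟩ := Finite.surjective_of_injective hinj ⟨u, hu⟩
  exact ⟨v.1, v.2, congrArg Subtype.val hv⟩

theorem gamma_pow_apply (Q : Subgroup VX) (hQγ : ∀ v : V, (v : VX) ∈ Q → ((γ v : V) : VX) ∈ Q)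
    (q : Q) : ∀ n : ℕ, (((show Function.End Q from fun q => ⟨(γ (q.1 : V) : V), hQγ _ q.2⟩) ^ n)
      q : Q).1 = ((γ ^ n) (q.1 : V) : V)
  | 0 => rfl
  | n + 1 => by
    rw [pow_succ', pow_succ']
    exact congrArg γ (gamma_pow_apply Q hQγ q n)

/-- The only invariant subspaces of the fixed space are the trivial ones. -/
theorem invariant (P : OutPair σ γ) (Q : Subgroup VX) (hQ : ∀ v : V, (v : VX) ∈ Q → σ v = v)
    (hQγ : ∀ v : V, (v : VX) ∈ Q → ((γ v : V) : VX) ∈ Q) :
    (∀ v : V, (v : VX) ∈ Q → v = 0) ∨ ∀ v : V, σ v = v → (v : VX) ∈ Q := by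
  classical
  haveI : Fact (Nat.Prime 5) := ⟨by norm_num⟩
  let f : Function.End Q := fun q => ⟨(γ (q.1 : V) : V), hQγ _ q.2⟩
  have hf : f ^ 5 ^ 1 = 1 := funext fun q => Subtype.ext (by
    rw [pow_one, gamma_pow_apply Q hQγ q 5, P.pow_five]; rfl)
  have hfix : Fintype.card f.fixedPoints = 1 := Fintype.card_eq_one_iff.2
    ⟨⟨1, Subtype.ext (add_zero_of P.lin.add)⟩, fun q => Subtype.ext (Subtype.ext
      (P.free _ (hQ _ q.1.2) (congrArg Subtype.val (show f q.1 = q.1 from q.2))))⟩
  have hmod := Equiv.Perm.card_fixedPoints_modEq hf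
  rw [hfix, ← Nat.card_eq_fintype_card] at hmod
  let ι : Q → Fx σ := fun q => ⟨q.1, hQ _ q.2⟩
  have hinj : Function.Injective ι := fun a b h => Subtype.ext (congrArg Subtype.val h :)
  have hle : Nat.card Q ≤ 16 := card_fix P ▸ Nat.card_le_card_of_injective ι hinj
  have hdvd : Nat.card Q ∣ 256 := card_VX ▸ Q.card_subgroup_dvd_card
  have hcase : Nat.card Q = 1 ∨ Nat.card Q = 16 := by
    have hall : ∀ n ≤ 16, n ∣ 256 → n % 5 = 1 → n = 1 ∨ n = 16 := by decide
    exact hall _ hle hdvd hmod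
  rcases hcase with h | h
  · left
    intro v hv
    rw [Subgroup.card_eq_one] at h
    exact (Subgroup.eq_bot_iff_forall Q).1 h (v : VX) hv
  · right
    intro v hv
    obtain ⟨q, hq⟩ := (hinj.bijective_of_nat_card_le (by rw [h, card_fix P])).2 ⟨v, hv⟩
    have hqv : (q.1 : V) = v := congrArg Subtype.val hq
    exact hqv ▸ q.2

/-- Linear involutions commuting with `σ` forming a group normalised by `γ` are trivial. -/
theorem normalised_trivial (P : OutPair σ γ) (K : Subgroup (Equiv.Perm V))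
    (hlin : ∀ k ∈ K, IsLin k) (hsq : ∀ k ∈ K, k * k = 1) (hcomm : ∀ k ∈ K, σ * k = k * σ)
    (hnorm : ∀ k ∈ K, γ⁻¹ * k * γ ∈ K) : ∀ k ∈ K, k = 1 := by
  classical
  have hmap : ∀ k ∈ K, ∀ u, σ u = u → σ (k u) = k u := fun k hk u hu => by
    have h := DFunLike.congr_fun (hcomm k hk) u
    simp only [Equiv.Perm.mul_apply, hu] at h
    exact h
  letI : MulAction K (Fx σ) :=
    { smul := fun k u => ⟨(k : Equiv.Perm V) u.1, hmap k.1 k.2 u.1 u.2⟩
      one_smul := fun u => Subtype.ext rfl
      mul_smul := fun k l u => Subtype.ext rfl }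
  haveI : Fact (Nat.Prime 2) := ⟨Nat.prime_two⟩
  have hP : IsPGroup 2 K := fun k => ⟨1, Subtype.ext (by
    rw [pow_one, Subgroup.coe_pow, pow_two]; exact hsq k.1 k.2)⟩
  obtain ⟨b, hb, hne⟩ := hP.exists_fixed_point_of_prime_dvd_card_of_fixed_point (Fx σ)
    (by rw [card_fix P]; norm_num)
    (a := ⟨0, add_zero_of P.anti.add⟩) (fun k => Subtype.ext (add_zero_of (hlin k.1 k.2).add))
  let Q : Subgroup VX :=
    { carrier := {v | σ (v : V) = v ∧ ∀ k ∈ K, k (v : V) = v}
      one_mem' := ⟨add_zero_of P.anti.add, fun k hk => add_zero_of (hlin k hk).add⟩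
      mul_mem' := fun {a b} ha hb => ⟨(P.anti.add a b).trans (congrArg₂ vadd ha.1 hb.1),
        fun k hk => ((hlin k hk).add a b).trans (congrArg₂ vadd (ha.2 k hk) (hb.2 k hk))⟩
      inv_mem' := fun {a} ha => ha }
  have hbQ : (b.1 : VX) ∈ Q := ⟨b.2, fun k hk => congrArg Subtype.val (hb ⟨k, hk⟩)⟩
  rcases invariant P Q (fun v hv => hv.1) (fun v hv => ⟨gamma_fix P hv.1, fun k hk => by
      have h1 := hv.2 _ (hnorm k hk)
      simp only [Equiv.Perm.mul_apply, Equiv.Perm.inv_eq_iff_eq] at h1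
      exact h1⟩) with h | h
  · exact absurd (Subtype.ext (h _ hbQ).symm) hne
  · exact fun k hk => lin_eq_one P (hlin k hk) fun u hu => (h u hu).2 k hk

end H33.U6E
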