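import Cfsg.Agent.H33.U6E.Cert
import Cfsg.Agent.H33.U6E.Plane
import Cfsg.Agent.H2.U6E.Semi

/-!
Linear algebra at a singular vector of the natural module: semilinear involutions fixing it, the
totally singular subspaces receiving their commutators, and unipotent subgroups normalised by the
transvections fixing it.
-/

set_option autoImplicit false

namespace H33.U6E

open H38.U6C H50.U6C H2.U6E H33.U6E.Cert

theorem smul_inj {c : ℕ} (hc : c < 4) (hc0 : c ≠ 0) {a : V} (h : smul4 c a = 0) : a = 0 := by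
  obtain ⟨d, hd, hdc⟩ := (show ∀ c < 4, c ≠ 0 → ∃ d < 4, fmul d c = 1 by decide) c hc hc0
  have h1 := congrArg (smul4 d) h
  rw [smul4_smul4 hd hc, hdc, smul4_one] at h1
  rw [h1, show smul4 d (0 : V) = 0 from
    (show ∀ d < 4, smul4 d (0 : V) = 0 by decide) d hd]

/-- The fixed points of an additive map. -/
def fixSub (f : Equiv.Perm V) (hf : ∀ a b, f (vadd a b) = vadd (f a) (f b)) : Subgroup VX where
  carrier := {a | f (a : V) = a}
  one_mem' := add_zero_of hf
  mul_mem' := fun {a b} ha hb => (hf a b).trans (congrArg₂ vadd ha hb)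
  inv_mem' := fun {_} ha => ha

theorem mem_fixSub {f : Equiv.Perm V} {hf : ∀ a b, f (vadd a b) = vadd (f a) (f b)} {a : V} :
    (a : VX) ∈ fixSub f hf ↔ f a = a := Iff.rfl

/-- A semilinear map fixes at most sixteen vectors. -/
theorem anti_fix_le {f : Equiv.Perm V} (hf : IsAnti f) :
    Nat.card {a : V // f a = a} ≤ 16 := by
  let F : {a : V // f a = a} × {a : V // f a = a} → V := fun q => vadd q.1.1 (smul4 3 q.2.1)
  have hF : Function.Injective F := fun q q' h => by
    have h1 : vadd (vadd q.1.1 (smul4 3 q.2.1)) (vadd q'.1.1 (smul4 3 q'.2.1)) = 0 := by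
      rw [show vadd q.1.1 (smul4 3 q.2.1) = vadd q'.1.1 (smul4 3 q'.2.1) from h, vadd_self]
    rw [vadd_vadd_vadd, ← smul4_vadd (by norm_num)] at h1
    have hd := vadd_eq_zero h1
    have he : vadd q.2.1 q'.2.1 = 0 := by
      refine smul_fix ?_
      have h2 := congrArg f hd
      rw [hf.add, q.1.2, q'.1.2, hd, anti_three hf, hf.add, q.2.2, q'.2.2] at h2
      exact h2
    rw [he, show smul4 3 (0 : V) = 0 by decide] at hd
    exact Prod.ext (Subtype.ext (vadd_eq_zero hd)) (Subtype.ext (vadd_eq_zero he))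
  have h := Nat.card_le_card_of_injective F hF
  rw [Nat.card_prod, Nat.card_eq_fintype_card (α := V), Fintype.card_fin] at h
  nlinarith

/-- A nontrivial linear map fixes at most a quarter of the vectors. -/
theorem lin_fix_le {f : Equiv.Perm V} (hf : IsLin f) (hne : f ≠ 1) :
    Nat.card {a : V // f a = a} ≤ 64 := by
  obtain ⟨x, hx⟩ : ∃ x, f x ≠ x := by
    by_contra h
    push Not at h
    exact hne (Equiv.ext h)
  let F : {a : V // f a = a} × Fin 4 → V := fun q => vadd q.1.1 (smul4 q.2.val x)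
  have hF : Function.Injective F := fun q q' h => by
    have h1 : vadd (vadd q.1.1 (smul4 q.2.val x)) (vadd q'.1.1 (smul4 q'.2.val x)) = 0 := by
      rw [show vadd q.1.1 (smul4 q.2.val x) = vadd q'.1.1 (smul4 q'.2.val x) from h, vadd_self]
    rw [vadd_vadd_vadd, ← smul4_xor q.2.2 q'.2.2] at h1
    have hd := vadd_eq_zero h1
    by_cases he : q.2.val ^^^ q'.2.val = 0
    · rw [he, smul4_zero_left] at hd
      exact Prod.ext (Subtype.ext (vadd_eq_zero hd)) (Fin.ext (Nat.xor_eq_zero_iff.1 he))
    · exfalso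
      apply hx
      have h2 := congrArg f hd
      rw [hf.add, q.1.2, q'.1.2, hd, show f (smul4 (q.2.val ^^^ q'.2.val) x) =
        smul4 (q.2.val ^^^ q'.2.val) (f x) from hf.smul ⟨_, xor_lt_four q.2.2 q'.2.2⟩ x] at h2
      refine (vadd_eq_zero (smul_inj (xor_lt_four q.2.2 q'.2.2) he ?_)).symm
      rw [smul4_vadd (xor_lt_four q.2.2 q'.2.2), h2, vadd_self]
  have h := Nat.card_le_card_of_injective F hF
  rw [Nat.card_prod, Nat.card_eq_fintype_card (α := V), Fintype.card_fin, Nat.card_eq_fintype_card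
    (α := Fin 4), Fintype.card_fin] at h
  omega

/-- A totally singular subspace containing the base vector, invariant under the transvections
fixing it and larger than two, contains an omega multiple of it. -/
theorem omega_mem (R : Subgroup VX) (hq : ∀ a : V, (a : VX) ∈ R → qv a = false)
    (hp : ∀ a b : V, (a : VX) ∈ R → (b : VX) ∈ R → pol a b = false) (hv : (v0 : VX) ∈ R)
    (hinv : ∀ j ∈ jl, ∀ a : V, (a : VX) ∈ R → ((tvFun j a : V) : VX) ∈ R)
    (hbig : ∃ r : V, (r : VX) ∈ R ∧ r ≠ 0 ∧ r ≠ v0) : ((smul4 2 v0 : V) : VX) ∈ R := by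
  have hW : ∀ a : V, (a : VX) ∈ R → isW a = true → ((smul4 2 v0 : V) : VX) ∈ R := fun a ha h => by
    simp only [isW, Bool.or_eq_true, beq_iff_eq] at h
    rcases h with h | h
    · exact h ▸ ha
    · exact base_facts.2.2.2.2.2.2.2.2.2.2 ▸ R.mul_mem (h ▸ ha) hv
  have hhit : ∀ a : V, (a : VX) ∈ R → hit a = true → ((smul4 2 v0 : V) : VX) ∈ R := fun a ha h => by
    simp only [hit, List.any_eq_true] at h
    obtain ⟨i, hi, j, hj, hij⟩ := h
    exact hW _ (R.mul_mem (hinv i hi a ha) (hinv j hj a ha)) hij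
  obtain ⟨r, hr, hr0, hrv⟩ := hbig
  rcases (reach_ok r (hq r hr) (hp v0 r hv hr)).resolve_left hr0 |>.resolve_left hrv with h
  simp only [reach, Bool.or_eq_true, List.any_eq_true] at h
  rcases h with (h | h) | ⟨k, hk, h⟩
  · exact hW r hr h
  · exact hhit r hr h
  · exact hhit _ (R.mul_mem (hinv k hk r hr) hr) h

/-- The space orthogonal to the base vector for the alternating form. -/
abbrev Pv : Type := {a : V // pol v0 a = false}

theorem card_Pv : Nat.card Pv = 128 := by
  rw [Nat.card_eq_fintype_card, Fintype.card_subtype, perp_card]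

/-- Commutators of a semilinear involution fixing the base vector inside a totally singular
subspace: the subspace has order sixteen and meets the fixed space in at least eight vectors. -/
theorem anti_core (R : Subgroup VX) (hp : ∀ a b : V, (a : VX) ∈ R → (b : VX) ∈ R → pol a b = false)
    (hv : (v0 : VX) ∈ R) (hw : ((smul4 2 v0 : V) : VX) ∈ R) {f : Equiv.Perm V} (hf : IsAnti f)
    (hinv : f * f = 1) (hfv : f v0 = v0)
    (hcom : ∀ a : V, pol v0 a = false → ((vadd (f a) a : V) : VX) ∈ R)
    (hRR : ∀ a : V, (a : VX) ∈ R → f a = a ∨ f a = vadd a v0) :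
    Nat.card R = 16 ∧ 8 ≤ Nat.card {a : V // f a = a ∧ (a : VX) ∈ R} := by
  classical
  set W := {a : V // f a = a ∧ (a : VX) ∈ R}
  have hff : ∀ a, f (f a) = a := fun a => DFunLike.congr_fun hinv a
  -- the image of the hyperplane
  have himg : 8 ≤ Nat.card W := by
    let F : Pv → W := fun a => ⟨vadd (f a.1) a.1, by rw [hf.add, hff, vadd_comm], hcom a.1 a.2⟩
    have hfib : ∀ w : W, Nat.card {a : Pv // F a = w} ≤ 16 := by
      intro w
      by_cases hne : Nonempty {a : Pv // F a = w}
      · obtain ⟨⟨a₀, ha₀⟩⟩ := hne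
        refine le_trans (Nat.card_le_card_of_injective
          (fun a => (⟨vadd a.1.1 a₀.1, ?_⟩ : {b : V // f b = b})) fun a b e => ?_) (anti_fix_le hf)
        · have h : vadd (f a.1.1) a.1.1 = vadd (f a₀.1) a₀.1 :=
            congrArg Subtype.val (a.2.trans ha₀.symm)
          refine vadd_eq_zero ?_
          rw [hf.add, vadd_vadd_vadd, h, vadd_self]
        · have h : vadd a.1.1 a₀.1 = vadd b.1.1 a₀.1 := congrArg Subtype.val e
          refine Subtype.ext (Subtype.ext (vadd_eq_zero ?_))
          have h2 := congrArg (vadd · (vadd b.1.1 a₀.1)) h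
          simp only [vadd_self] at h2
          rwa [vadd_vadd_vadd, vadd_self, vadd_zero'] at h2
      · haveI := not_nonempty_iff.1 hne
        simp
    have h1 : Nat.card Pv = Nat.card (Σ w : W, {a : Pv // F a = w}) :=
      (Nat.card_congr (Equiv.sigmaFiberEquiv F)).symm
    rw [card_Pv, Nat.card_sigma] at h1
    have h2 : ∑ w : W, Nat.card {a : Pv // F a = w} ≤ Nat.card W * 16 := by
      rw [Nat.card_eq_fintype_card (α := W)]
      exact (Finset.sum_le_card_nsmul _ _ 16 fun w _ => hfib w).trans_eq (smul_eq_mul _ _)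
    omega
  -- at most eight fixed vectors lie in the subspace
  have hfix8 : Nat.card W ≤ 8 := by
    let Q : Subgroup VX := fixSub f hf.add ⊓ R
    let S : Subgroup VX := fixSub f hf.add
    have hQS : Q ≤ S := inf_le_left
    have hS : Nat.card S ≤ 16 := anti_fix_le hf
    have hlt : Nat.card Q < Nat.card S := by
      by_contra hge
      rw [Nat.not_lt] at hge
      have hSR : S ≤ R := (Subgroup.eq_of_le_of_card_ge hQS hge).symm.le.trans inf_le_right
      have hpw : ∀ a : V, f a = a → herm v0 a = 0 := by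
        intro a ha
        have h1 : herm v0 a = fconj (herm v0 a) := by
          have := hf.herm_eq v0 a
          rwa [hfv, ha] at this
        have h2 : pol (smul4 2 v0) a = false := hp _ _ hw (hSR ha)
        simp only [pol, herm_smul_left (show 2 < 4 by norm_num)] at h2
        exact (show ∀ h < 4, h = fconj h → decide (2 ≤ fmul (fconj 2) h) = false → h = 0 by decide)
          _ (herm_lt v0 a) h1 h2
      have hfp : ∀ a, f (vadd a (f a)) = vadd a (f a) := fun a => by
        rw [hf.add, hff, vadd_comm]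
      have hdec : u0 = vadd (vadd (smul4 2 u0) (f (smul4 2 u0))) (smul4 3 (vadd u0 (f u0))) := by
        rw [anti_two hf]
        exact (omega_identity u0 (f u0)).symm
      have h0 : herm v0 u0 = 0 := by
        rw [hdec, herm_vadd_right, herm_smul_right (show 3 < 4 by norm_num), hpw _ (hfp _),
          hpw _ (hfp _)]
        rfl
      rw [base_facts.2.2.1] at h0
      exact one_ne_zero h0
    obtain ⟨k, hk⟩ := Subgroup.card_dvd_of_le hQS
    have hk2 : 2 ≤ k := by
      by_contra hk2
      interval_cases k <;> omega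
    have hWQ : Nat.card W ≤ Nat.card Q :=
      Nat.card_le_card_of_injective (fun w => (⟨w.1, w.2.1, w.2.2⟩ : Q)) fun a b e =>
        Subtype.ext (congrArg Subtype.val e :)
    nlinarith
  -- the whole subspace
  have hout : ∀ a : V, (a : VX) ∈ R → ¬ f a = a → f (vadd a (smul4 2 v0)) = vadd a (smul4 2 v0) ∧
      ((vadd a (smul4 2 v0) : V) : VX) ∈ R := fun a ha h => by
    refine ⟨?_, R.mul_mem ha hw⟩
    rw [hf.add, (hRR a ha).resolve_left h, anti_two hf, hfv, H50.U6C.vadd_assoc,
      ← base_facts.2.2.2.2.2.2.2.2.2.2, H50.U6C.vadd_comm v0 (smul4 3 v0)]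
  refine ⟨le_antisymm ?_ ?_, himg⟩
  · let F : R → W ⊕ W := fun a =>
      if h : f (a.1 : V) = a.1 then Sum.inl ⟨a.1, h, a.2⟩
      else Sum.inr ⟨vadd (a.1 : V) (smul4 2 v0), hout _ a.2 h⟩
    have hF : Function.Injective F := by
      intro a b h
      simp only [F] at h
      split_ifs at h with ha hb
      · exact Subtype.ext (congrArg Subtype.val (Sum.inl_injective h) :)
      · refine Subtype.ext (vadd_eq_zero ?_)
        have h' : vadd (a.1 : V) (smul4 2 v0) = vadd (b.1 : V) (smul4 2 v0) :=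
          congrArg Subtype.val (Sum.inr.inj h)
        have h2 := congrArg (vadd · (vadd (b.1 : V) (smul4 2 v0))) h'
        simp only [H50.U6C.vadd_self] at h2
        have hcan : ∀ a b c : V, vadd (vadd a c) (vadd b c) = vadd a b := fun a b c => by
          rw [vadd_vadd_vadd, H50.U6C.vadd_self, vadd_zero']
        exact (hcan a.1 b.1 _).symm.trans h2
    have h := Nat.card_le_card_of_injective F hF
    rw [Nat.card_sum] at h
    omega
  · let F : W ⊕ W → R := Sum.elim (fun w => ⟨w.1, w.2.2⟩)
      (fun w => ⟨((vadd w.1 (smul4 2 v0) : V) : VX), R.mul_mem w.2.2 hw⟩)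
    have hne : ∀ a b : W, a.1 ≠ vadd b.1 (smul4 2 v0) := fun a b h => by
      have h1 := congrArg f h
      rw [a.2.1, hf.add, b.2.1, anti_two hf, hfv, h] at h1
      have h2 := congrArg (vadd b.1) h1
      rw [← H50.U6C.vadd_assoc, ← H50.U6C.vadd_assoc, vadd_self, vadd_zero_left, vadd_zero_left] at h2
      exact base_facts.2.2.2.2.2.2.1 (smul_fix h2.symm)
    have hF : Function.Injective F := by
      rintro (a | a) (b | b) h <;> have h' := congrArg Subtype.val h <;>
        simp only [F, Sum.elim_inl, Sum.elim_inr] at h'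
      · exact congrArg Sum.inl (Subtype.ext h')
      · exact absurd h' (hne a b)
      · exact absurd h'.symm (hne b a)
      · refine congrArg Sum.inr (Subtype.ext (vadd_eq_zero ?_))
        have h2 := congrArg (vadd · (vadd b.1 (smul4 2 v0))) (h' : vadd a.1 (smul4 2 v0) = _)
        simp only [vadd_self] at h2
        rwa [vadd_vadd_vadd, vadd_self, vadd_zero'] at h2
    have h := Nat.card_le_card_of_injective F hF
    rw [Nat.card_sum] at h
    omega

/-- In such a subspace the omega-stable parts lie on the line of the base vector. -/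
theorem line_only (R : Subgroup VX) (hv : (v0 : VX) ∈ R) (hw : ((smul4 2 v0 : V) : VX) ∈ R)
    {f : Equiv.Perm V} (hf : IsAnti f) (hR : Nat.card R = 16)
    (hW : 8 ≤ Nat.card {a : V // f a = a ∧ (a : VX) ∈ R}) {y : V} (hy : (y : VX) ∈ R)
    (hy2 : ((smul4 2 y : V) : VX) ∈ R) : ∃ c < 4, y = smul4 c v0 := by
  classical
  by_contra hno
  push Not at hno
  have hmem : ∀ z : V, (z : VX) ∈ R → ((smul4 2 z : V) : VX) ∈ R → ∀ c < 4,
      ((smul4 c z : V) : VX) ∈ R := by
    intro z hz hz2 c hc
    interval_cases c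
    · rw [smul4_zero_left]; exact R.one_mem
    · rw [smul4_one]; exact hz
    · exact hz2
    · rw [show (3 : ℕ) = 2 ^^^ 1 by decide, smul4_xor (by norm_num) (by norm_num), smul4_one]
      exact R.mul_mem hz2 hz
  let E : Fin 4 × Fin 4 → R := fun q =>
    ⟨((vadd (smul4 q.1.val y) (smul4 q.2.val v0) : V) : VX),
      R.mul_mem (hmem y hy hy2 _ q.1.2) (hmem v0 hv hw _ q.2.2)⟩
  have hE : Function.Injective E := by
    intro q q' h
    have h' : vadd (smul4 q.1.val y) (smul4 q.2.val v0) =
        vadd (smul4 q'.1.val y) (smul4 q'.2.val v0) := congrArg Subtype.val h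
    have h1 : vadd (smul4 (q.1.val ^^^ q'.1.val) y) (smul4 (q.2.val ^^^ q'.2.val) v0) = 0 := by
      rw [smul4_xor q.1.2 q'.1.2, smul4_xor q.2.2 q'.2.2, ← vadd_vadd_vadd, h', vadd_self]
    have hlt := xor_lt_four q.1.2 q'.1.2
    by_cases he : q.1.val ^^^ q'.1.val = 0
    · rw [he, smul4_zero_left, vadd_zero_left] at h1
      by_cases he2 : q.2.val ^^^ q'.2.val = 0
      · exact Prod.ext (Fin.ext (Nat.xor_eq_zero_iff.1 he)) (Fin.ext (Nat.xor_eq_zero_iff.1 he2))
      · exact absurd (smul_inj (xor_lt_four q.2.2 q'.2.2) he2 h1) base_facts.2.2.2.2.2.2.1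
    · obtain ⟨d, hd, hdc⟩ :=
        (show ∀ c < 4, c ≠ 0 → ∃ d < 4, fmul d c = 1 by decide) _ hlt he
      have h2 := congrArg (smul4 d) (vadd_eq_zero h1)
      rw [smul4_smul4 hd hlt, hdc, smul4_one, smul4_smul4 hd (xor_lt_four q.2.2 q'.2.2)] at h2
      exact absurd h2 (hno _ (fmul_lt _ _))
  have hsur := (hE.bijective_of_nat_card_le (by
    rw [hR, Nat.card_prod, Nat.card_eq_fintype_card (α := Fin 4), Fintype.card_fin])).2
  have homega : ∀ r : V, (r : VX) ∈ R → ((smul4 2 r : V) : VX) ∈ R := by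
    intro r hr
    obtain ⟨q, hq⟩ := hsur ⟨r, hr⟩
    have hq' : vadd (smul4 q.1.val y) (smul4 q.2.val v0) = r := congrArg Subtype.val hq
    rw [← hq', smul4_vadd (by norm_num), smul4_smul4 (by norm_num) q.1.2, smul4_smul4 (by norm_num) q.2.2]
    exact R.mul_mem (hmem y hy hy2 _ (fmul_lt _ _)) (hmem v0 hv hw _ (fmul_lt _ _))
  let W := {a : V // f a = a ∧ (a : VX) ∈ R}
  let P : W × W → R := fun q =>
    ⟨((vadd q.1.1 (smul4 2 q.2.1) : V) : VX), R.mul_mem q.1.2.2 (homega _ q.2.2.2)⟩
  have hP : Function.Injective P := by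
    intro q q' h
    have h' : vadd q.1.1 (smul4 2 q.2.1) = vadd q'.1.1 (smul4 2 q'.2.1) := congrArg Subtype.val h
    have h1 : vadd (vadd q.1.1 q'.1.1) (smul4 2 (vadd q.2.1 q'.2.1)) = 0 := by
      rw [smul4_vadd (by norm_num), ← vadd_vadd_vadd, h', vadd_self]
    have hd := vadd_eq_zero h1
    have he : vadd q.2.1 q'.2.1 = 0 := by
      refine smul_fix ?_
      have h2 := congrArg f hd
      rw [hf.add, q.1.2.1, q'.1.2.1, hd, anti_two hf, hf.add, q.2.2.1, q'.2.2.1] at h2
      exact h2.symm
    rw [he, show smul4 2 (0 : V) = 0 by decide] at hd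
    exact Prod.ext (Subtype.ext (vadd_eq_zero hd)) (Subtype.ext (vadd_eq_zero he))
  have h := Nat.card_le_card_of_injective P hP
  rw [Nat.card_prod, hR] at h
  nlinarith

/-- The parameter of a map fixing the flag at the base vector. -/
def wOf (e : Equiv.Perm V) : V := vadd (e u0) u0

/-- Such a map is given by its parameter. -/
theorem eq_rad {e : Equiv.Perm V} (he : IsLin e) (hev : e v0 = v0)
    (hflag : ∀ x : V, herm v0 x = 0 → ∃ c < 4, vadd (e x) x = smul4 c v0) :
    (∀ a, e a = rad (wOf e) a) ∧ herm v0 (wOf e) = 0 := by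
  obtain ⟨-, -, hvu, huv, hvv, -⟩ := base_facts
  have hw : herm v0 (wOf e) = 0 := by
    show herm v0 (vadd (e u0) u0) = 0
    rw [herm_vadd_right]
    have h := he.herm_eq v0 u0
    rw [hev] at h
    rw [h, Nat.xor_self]
  refine ⟨fun a => ?_, hw⟩
  set k := herm v0 a
  set x := vadd a (smul4 k u0) with hx
  have hx0 : herm v0 x = 0 := by
    rw [hx, herm_vadd_right, herm_smul_right (herm_lt _ _), hvu]
    exact (show ∀ h < 4, h ^^^ fmul h 1 = 0 by decide) _ (herm_lt _ _)
  obtain ⟨c, hc, hce⟩ := hflag x hx0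
  have hex : e x = vadd x (smul4 c v0) := by
    rw [← hce, vadd_comm (e x) x, ← H50.U6C.vadd_assoc, vadd_self, vadd_zero_left]
  have heu : e u0 = vadd u0 (wOf e) := by
    show e u0 = vadd u0 (vadd (e u0) u0)
    rw [vadd_comm (e u0) u0, ← H50.U6C.vadd_assoc, vadd_self, vadd_zero_left]
  have hc' : c = herm (wOf e) x := by
    have h := he.herm_eq x u0
    rw [hex, heu, herm_vadd_left, herm_vadd_right, herm_vadd_right, herm_smul_left hc,
      herm_smul_left hc, hvu, hw] at h
    have hconj : herm (wOf e) x = fconj (herm x (wOf e)) := herm_conj x (wOf e)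
    rw [hconj]
    exact (show ∀ a < 4, ∀ b < 4, ∀ c < 4,
      (a ^^^ b) ^^^ (fmul (fconj c) 1 ^^^ fmul (fconj c) 0) = a → c = fconj b by decide)
      _ (herm_lt x u0) _ (herm_lt x (wOf e)) _ hc h
  have ha : a = vadd x (smul4 k u0) := by rw [hx, H50.U6C.vadd_assoc, vadd_self, vadd_zero']
  calc e a = vadd (e x) (smul4 k (e u0)) := by
        conv_lhs => rw [ha]
        rw [he.add]
        exact congrArg _ (he.smul ⟨k, herm_lt _ _⟩ u0)
    _ = rad (wOf e) a := by
        rw [hex, heu, hc', smul4_vadd (herm_lt _ _)]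
        show _ = vadd (vadd a (smul4 k (wOf e))) (smul4 (herm (wOf e) x) v0)
        rw [vadd_vadd_vadd, ← ha, vadd_comm (smul4 (herm (wOf e) x) v0), ← H50.U6C.vadd_assoc]

/-- A group of four commuting maps fixing the flag is not normalised by all transvections fixing
the base vector; more precisely such a group has at most two members. -/
theorem flag_le_two (K : Subgroup (Equiv.Perm V)) (hlin : ∀ e ∈ K, IsLin e)
    (hsq : ∀ e ∈ K, e * e = 1) (hfix : ∀ e ∈ K, e v0 = v0)
    (hflag : ∀ e ∈ K, ∀ x : V, herm v0 x = 0 → ∃ c < 4, vadd (e x) x = smul4 c v0)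
    (hnorm : ∀ j ∈ jl, ∀ e ∈ K, tv j * e * tv j ∈ K) (hcard : Nat.card K ≤ 4) :
    ∀ e ∈ K, wOf e = 0 ∨ wOf e = v0 := by
  classical
  intro e he
  by_contra hno
  rw [not_or] at hno
  obtain ⟨hrad, hw⟩ := eq_rad (hlin e he) (hfix e he) (hflag e he)
  have heu : e u0 = vadd u0 (wOf e) := by
    show e u0 = vadd u0 (vadd (e u0) u0)
    rw [vadd_comm (e u0) u0, ← H50.U6C.vadd_assoc, vadd_self, vadd_zero_left]
  have hq : qv (vadd u0 (wOf e)) = false := by
    rw [← heu]
    simp only [qv, (hlin e he).herm_eq]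
    exact base_facts.2.1
  have hrr : rad (wOf e) (rad (wOf e) u0) = u0 := by
    rw [← hrad, ← hrad]
    exact DFunLike.congr_fun (hsq e he) u0
  have hbig := orbit_big (wOf e) hw hno.1 hno.2 hq hrr
  haveI : Fintype K := Fintype.ofFinite K
  have hsub : (wOf e :: jl.map fun j => par j (wOf e)).dedup.toFinset ⊆
      Finset.univ.image fun k : K => wOf k.1 := by
    intro a ha
    rw [List.mem_toFinset, List.mem_dedup, List.mem_cons, List.mem_map] at ha
    rw [Finset.mem_image]
    rcases ha with rfl | ⟨j, hj, rfl⟩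
    · exact ⟨⟨e, he⟩, Finset.mem_univ _, rfl⟩
    · refine ⟨⟨_, hnorm j hj e he⟩, Finset.mem_univ _, ?_⟩
      show vadd ((tv j * e * tv j) u0) u0 = par j (wOf e)
      rw [Equiv.Perm.mul_apply, Equiv.Perm.mul_apply, hrad]
      rfl
  have h1 := (Finset.card_le_card hsub).trans Finset.card_image_le
  rw [List.toFinset_card_of_nodup (List.nodup_dedup _), Finset.card_univ,
    ← Nat.card_eq_fintype_card] at h1
  omega

end H33.U6E
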